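import Cfsg.Agent.FS.N.Sw.Col
import Cfsg.Agent.FS.Sw.Cls

/-!
# The filter on pairs for bases of order up to `2 ^ 8`: the test at one class (helper75, project FS; port of `FS/Sw`)
-/

set_option autoImplicit false

namespace Cfsg.Agent.FS.N.Sw

open Cfsg Cfsg.Agent.FS.Pc Cfsg.Agent.FS.Sw Cfsg.Agent.FS.Th Finset

universe u

variable {G : Type u} [Group G]

theorem shp_eq (p : Pre) (lev : Bool) (c NC Q w X t ti a : ℕ) : shp p lev c NC Q w X t ti a =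
    ite' (same p lev NC Q X a w)
      (ite' (same p lev NC Q X (p.mul c w a) (p.mul c a (p.mul c (p.mul c t a) ti))) 2 1) 0 := by
  unfold shp
  rw [frc_eq, frc_eq, frc_eq, frc_eq]

theorem shape_eq {p : Pre} {lev : Bool} {c NC Q w X V pv t : ℕ} (h : shape p lev c NC Q w X V pv t = true) :
    ∃ i e, e = p.mul c (t * 2) (i * 2) ∧ e < 2 ∧ i * 2 < p.N + p.N ∧
      cntM (shp p lev c NC Q w X (t * 2) (i * 2 + e)) (fun k => bor (Nat.blt k 4)
        (Nat.beq (Nat.shiftLeft (pop (V &&& row p.n p.F NC t)) 1) pv)) p.N1 (V &&& row p.n p.F NC t) 0 = true := by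
  unfold shape at h
  rw [frc_eq, frc_eq, frc_eq, frc_eq, frc_eq, band_eq, band_eq, Bool.and_eq_true, Bool.and_eq_true, blt_iff, blt_iff,
    shl_eq t, shl_eq (ctz _), Nat.pow_one, nland, nadd, nadd] at h
  exact ⟨_, _, rfl, h⟩

namespace Ok

variable {p : Pre} {z : G} {s : ℕ → G} {c NC Q I : ℕ} {sq : ℕ → ℕ}

theorem e2_double (_h : Ok p z s c NC Q I sq) (a : ℕ) : e2 z s (a * 2) = s a := by
  unfold e2
  rw [Nat.shiftRight_eq_div_pow, Nat.testBit_zero, Nat.pow_one, Nat.mul_div_cancel _ Nat.two_pos, Nat.mul_mod_left]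
  exact mul_one _

theorem rep_e2 (h : Ok p z s c NC Q I sq) {X : ℕ} {S : Set G} (hX : Rep p.n z s X S) {a : ℕ} (ha : a < 2 * 2 ^ p.n) :
    X.testBit (a / 2) = true ↔ e2 z s a ∈ S := by
  have h1 := hX.2 _ (h.half_lt ha) (a.testBit 0)
  rw [Nat.shiftRight_eq_div_pow] at h1
  unfold e2
  rwa [Nat.shiftRight_eq_div_pow]

theorem orN_spec (h : Ok p z s c NC Q I sq) {v : ℕ} (hv : v < 2 ^ p.n) {P : Subgroup G}
    (hP : ∀ g, g ∈ P ↔ s v * g = g * s v) : ∀ U : List (ℕ × ℕ), (∀ u ∈ U, u.1 < 2 ^ p.n ∧ u.2 < 2 ^ 2 ^ p.n ∧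
      ∀ g, u.2.testBit g = true → ∃ e, s v * s g = s g * s u.1 * zp z e) →
    p.orN NC (row p.n p.F NC v) U < 2 ^ 2 ^ p.n ∧ ∀ g, (p.orN NC (row p.n p.F NC v) U).testBit g = true →
      ∀ e, s g * zp z e ∈ Subgroup.normalizer (P : Set G)
  | [], _ => ⟨Nat.two_pow_pos _, fun g hg => by
      rw [show p.orN NC (row p.n p.F NC v) [] = 0 from rfl, Nat.zero_testBit] at hg
      cases hg⟩
  | u :: U, hU => by
    obtain ⟨a1, a2⟩ := h.orN_spec hv hP U fun u hu => hU u (List.mem_cons_of_mem _ hu)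
    obtain ⟨b1, b2, b3⟩ := hU u List.mem_cons_self
    have h1 : p.orN NC (row p.n p.F NC v) (u :: U) = ite' (Nat.beq (row p.n p.F NC u.1) (row p.n p.F NC v))
      (Nat.lor u.2 (p.orN NC (row p.n p.F NC v) U)) (p.orN NC (row p.n p.F NC v) U) := rfl
    rw [h1]
    cases h2 : Nat.beq (row p.n p.F NC u.1) (row p.n p.F NC v)
    · exact ⟨a1, a2⟩
    rw [ite'_true, nlor]
    refine ⟨Nat.or_lt_two_pow b2 a1, fun g hg e => ?_⟩
    rw [Nat.testBit_or, Bool.or_eq_true] at hg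
    rcases hg with hg | hg
    swap
    · exact a2 g hg e
    obtain ⟨f, h3⟩ := b3 g hg
    have h4 : ∀ y, s u.1 * y = y * s u.1 ↔ s v * y = y * s v := fun y => by
      obtain ⟨a, ha, e, rfl⟩ := h.span y
      have h5 := (h.rep_row b1).2 a ha e
      rw [(beq_iff _ _).1 h2, (h.rep_row hv).2 a ha e] at h5
      exact (not_iff_not.1 h5).symm
    have h5 : s v = s g * (s u.1 * zp z f) * (s g)⁻¹ := by rw [← mul_assoc, ← h3, mul_inv_cancel_right]
    refine Subgroup.mul_mem _ (Subgroup.mem_normalizer_iff.2 fun y => ?_)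
      (Subgroup.le_normalizer ((hP _).2 (h.zp_comm e _).symm))
    rw [hP, hP, ← h4, eq_comm, ← h.comm_zp' _ _ f, h5]
    constructor
    · intro h6
      calc _ = s g * (s u.1 * zp z f * y) * (s g)⁻¹ := by group
        _ = _ := by rw [← h6]; group
    · intro h6
      calc _ = (s g)⁻¹ * (s g * y * (s g)⁻¹ * (s g * (s u.1 * zp z f) * (s g)⁻¹)) * s g := by group
        _ = _ := by rw [← h6]; group

theorem shape_false (h : Ok p z s c NC Q I sq) {P : Subgroup G} {A D : Subgroup (MulAut P)} (hL : Loc P A D)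
    {w : ℕ} (hw : w < 2 * 2 ^ p.n) (hw2 : e2 z s w * e2 z s w = 1) (hwc : ∀ g, g * e2 z s w = e2 z s w * g)
    (hz : ∀ α ∈ A, fn α (e2 z s w) = e2 z s w → α ∈ D) {X V : ℕ} (hX : Rep p.n z s X P)
    (hV : Rep p.n z s V (inVS P)) {t : ℕ} (ht : t < 2 ^ p.n) (htN : ∀ x ∈ P, s t * x * (s t)⁻¹ ∈ P) (htP : s t ∉ P)
    (htt : s t * s t ∈ P) (lev : Bool) (hs : shape p lev c NC Q w X V (pop V) t = true) : False := by
  have := h.finite
  obtain ⟨i, e, he, a1, a2, a3⟩ := shape_eq hs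
  rw [h.hN] at a2
  have ht2 : t * 2 < 2 * 2 ^ p.n := by omega
  obtain ⟨-, b1⟩ := h.mul (t * 2) (i * 2) ht2 (by omega)
  rw [← he] at b1
  have hti : i * 2 + e < 2 * 2 ^ p.n := by omega
  have b2 : e2 z s (i * 2 + e) = (s t)⁻¹ := by
    refine eq_inv_of_mul_eq_one_right ?_
    rw [h.e2_double, h.e2_double] at b1
    have b3 : e2 z s (i * 2 + e) = s i * zp z (e.testBit 0) := by
      unfold e2
      rw [Nat.shiftRight_eq_div_pow, Nat.testBit_zero, Nat.testBit_zero, show (i * 2 + e) / 2 ^ 1 = i by omega,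
        show (i * 2 + e) % 2 = e % 2 by omega]
    have b4 : e2 z s e = zp z (e.testBit 0) := by
      unfold e2
      rw [Nat.shiftRight_eq_div_pow, show e / 2 ^ 1 = 0 by omega, h.s0, one_mul]
    rw [b3, ← mul_assoc, b1, b4, h.zp_sq]
  obtain ⟨c1, c2⟩ := cntM_spec _ _ _ a3
  have hM := hV.inter (h.rep_row ht)
  have hwV : e2 z s w ∈ inVS P := ⟨hL.mem_of_centralizes fun x _ => (hwc x).symm, hw2, fun y _ => hwc y⟩
  have hwP : e2 z s w ∈ P := hwV.1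
  -- the value at an element of the orbit
  have key : ∀ (β : MulAut P), s t * fn β (e2 z s w) ≠ fn β (e2 z s w) * s t → ∃ a, a < 2 * 2 ^ p.n ∧
      e2 z s a = fn β (e2 z s w) ∧ (V &&& row p.n p.F NC t).testBit (a / 2) = true ∧
      shp p lev c NC Q w X (t * 2) (i * 2 + e) a = 1 ∧ ∀ α : MulAut P,
        fn α (e2 z s w * e2 z s a) ≠ e2 z s a * (s t * e2 z s a * (s t)⁻¹) := fun β hβ => by
    obtain ⟨a, ha, d1⟩ := h.span2 (fn β (e2 z s w))
    have d2 := (h.rep_e2 hM ha).2 (d1 ▸ ⟨fn_mem_inVS β hwV, hβ⟩)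
    have haP : e2 z s a ∈ P := d1 ▸ fn_mem β hwP
    have d3 := h.same_true hX lev ha hw β⁻¹ haP (by rw [← d1, fn_inv_fn β hwP])
    have d4 := c1 a d2
    obtain ⟨m1, m2⟩ := h.mul _ _ ht2 ha
    obtain ⟨m3, m4⟩ := h.mul _ _ m1 hti
    obtain ⟨m5, m6⟩ := h.mul _ _ ha m3
    obtain ⟨m7, m8⟩ := h.mul _ _ hw ha
    rw [shp_eq, d3, ite'_true] at d4
    cases d5 : same p lev NC Q X (p.mul c w a) (p.mul c a (p.mul c (p.mul c (t * 2) a) (i * 2 + e)))
    · refine ⟨a, ha, d1.symm, d2, by rw [shp_eq, d3, d5, ite'_true, ite'_false], fun α hα => ?_⟩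
      rw [h.same_true hX lev m7 m5 α (m8 ▸ P.mul_mem hwP haP)
        (by rw [← m8, hα, ← m6, ← m4, ← m2, b2, h.e2_double])] at d5
      cases d5
    · rw [d5, ite'_true] at d4
      omega
  obtain ⟨α, -, -, -, hα⟩ := hL.shape hwc hw2 hz htN htP htt
  set v := fn α (e2 z s w) with hv
  have n1 : s t * v ≠ v * s t := fun h1 => htP ((hα.cen _).1 h1)
  have n2 : s t * fn α v ≠ fn α v * s t := fun h1 => htP ((hα.cen2 _).1 h1)
  have hvV : v ∈ inVS P := fn_mem_inVS α hwV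
  have huV : fn α v ∈ inVS P := fn_mem_inVS α hvV
  have n3 : ∀ y, s t * y ≠ y * s t → s t * (s t * y * (s t)⁻¹) ≠ s t * y * (s t)⁻¹ * s t := fun y hy h1 => hy (by
    rw [inv_mul_cancel_right] at h1
    rw [← mul_left_cancel h1, inv_mul_cancel_right, mul_left_cancel h1])
  have n4 : ∀ y, s t * y ≠ y * s t → y ≠ s t * y * (s t)⁻¹ := fun y hy h1 => hy (by
    conv_rhs => rw [h1]
    rw [inv_mul_cancel_right])
  obtain ⟨k1, l1, e1, f1, g1, g5⟩ := key α n1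
  rcases hα.alt with ⟨-, h1⟩ | ⟨h1, h2, h3, β, h4⟩
  · exact g5 α (by rw [e1]; exact h1)
  have h5 : fn α⁻¹ (e2 z s w) = s t * v * (s t)⁻¹ := by rw [← hα.inv, fn_inv_fn α (htN _ hvV.1)]
  have h6 : fn (α * α) (e2 z s w) = fn α v := fn_mul _ _ hwP
  obtain ⟨k2, l2, e2', f2, g2, -⟩ := key α⁻¹ (by rw [h5]; exact n3 _ n1)
  obtain ⟨k3, l3, e3, f3, g3, -⟩ := key (α * α) (by rw [h6]; exact n2)
  obtain ⟨k4, l4, e4, f4, g4, -⟩ := key β (by rw [h4]; exact n3 _ n2)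
  rw [h5] at e2'
  rw [h6] at e3
  rw [h4] at e4
  have ne : ∀ {a b : ℕ} {x y : G}, e2 z s a = x → e2 z s b = y → x ≠ y → a ≠ b := fun q1 q2 q3 q4 =>
    q3 (by rw [← q1, ← q2, q4])
  have h7 : v ≠ s t * fn α v * (s t)⁻¹ := fun q => h2 (by
    have q2 := huV.2.2 _ htt
    calc fn α v = s t * s t * fn α v * (s t * s t)⁻¹ := by rw [q2, mul_inv_cancel_right]
      _ = s t * (s t * fn α v * (s t)⁻¹) * (s t)⁻¹ := by group
      _ = s t * v * (s t)⁻¹ := by rw [← q])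
  obtain ⟨c', c3, c4⟩ := c2 {k1, k2, k3, k4} fun a ha => by
    simp only [mem_insert, mem_singleton] at ha
    rcases ha with rfl | rfl | rfl | rfl
    exacts [⟨f1, g1⟩, ⟨f2, g2⟩, ⟨f3, g3⟩, ⟨f4, g4⟩]
  rw [card_eq_four.2 ⟨k1, k2, k3, k4, ne e1 e2' (n4 _ n1), ne e1 e3 h1.symm, ne e1 e4 h7, ne e2' e3 h2.symm,
    ne e2' e4 (fun q => h1 (mul_left_cancel (mul_right_cancel q)).symm), ne e3 e4 (n4 _ n2), rfl⟩] at c3
  rw [bor_eq, Bool.or_eq_true, blt_iff, beq_iff, shl_eq] at c4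
  refine h3 (idx_two (inVS P) (s t) ?_ hvV huV n1 n2)
  have c5 := h.card_eq hV
  rw [h.card_eq hM]
  exact Eq.trans (by omega) c5.symm

theorem cls_false (h : Ok p z s c NC Q I sq) {P : Subgroup G} {w : ℕ} (hw : w < 2 * 2 ^ p.n)
    (hw2 : e2 z s w * e2 z s w = 1) (hwc : ∀ g, g * e2 z s w = e2 z s w * g) (hL : LocZ (e2 z s w) P ⊥)
    {d : ℕ × List (ℕ × ℕ)} (hd : d ∈ p.C) (h0 : 0 < d.1) (h1 : d.1 < 2 ^ p.n) (hU : ∀ u ∈ d.2, u.1 < 2 ^ p.n)
    (hP : ∀ g, g ∈ P ↔ s d.1 * g = g * s d.1) (hsq : s d.1 * s d.1 = 1) (lev : Bool)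
    (hc : cls p lev c NC Q I w d = true) : False := by
  have := h.finite
  obtain ⟨A, D, hL, -, hz⟩ := hL
  have hR := h.rep_row h1
  have hX : Rep p.n z s (p.F ^^^ row p.n p.F NC d.1) P := by
    have h2 := hR.compl
    rw [← h.hF] at h2
    exact h2.congr fun y => not_not.trans (hP y).symm
  obtain ⟨n1, n2⟩ := h.orN_spec h1 hP d.2 fun u hu => ⟨hU u hu, h.cj d hd u hu h1 (hU u hu)⟩
  have hV : Rep p.n z s (I &&& (p.F ^^^ p.nz NC (p.F ^^^ row p.n p.F NC d.1))) (inVS P) := by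
    have h2 := h.rep_I.inter (h.rep_nz hX h0 h1 fun y hy => ((hP y).1 hy).symm).compl
    rw [← h.hF] at h2
    refine h2.congr fun y => ⟨fun ⟨a1, a2⟩ => ?_, fun a => ⟨a.2.1, fun ⟨x, hx, a2⟩ => a2 (a.2.2 x hx)⟩⟩
    have a3 : ∀ x ∈ P, x * y = y * x := fun x hx => by_contra fun a4 => a2 ⟨x, hx, a4⟩
    exact ⟨(hP y).2 (a3 _ ((hP _).2 rfl)), a1, a3⟩
  have hlt : ∀ Y Z, p.orN NC (row p.n p.F NC d.1) d.2 &&& Y &&& Z < 2 ^ 2 ^ p.n := fun Y Z =>
    Nat.lt_of_le_of_lt (Nat.and_le_left.trans Nat.and_le_left) n1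
  have hT : ∀ t, (p.orN NC (row p.n p.F NC d.1) d.2 &&& row p.n p.F NC d.1 &&&
      p.sqin (p.F ^^^ row p.n p.F NC d.1)).testBit t = true →
      t < 2 ^ p.n ∧ (∀ x ∈ P, s t * x * (s t)⁻¹ ∈ P) ∧ s t ∉ P ∧ s t * s t ∈ P := fun t ht => by
    have a1 := lt_of_testBit_true (hlt _ _) ht
    rw [Nat.testBit_and, Nat.testBit_and, Bool.and_eq_true, Bool.and_eq_true, hR.2 t a1 false,
      (h.rep_sqin hX).2 t a1 false] at ht
    have a2 := n2 t ht.1.1 false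
    rw [show s t * zp z false = s t from mul_one _] at ht a2
    exact ⟨a1, fun x hx => (Subgroup.mem_normalizer_iff.1 a2 x).1 hx, fun a3 => ht.1.2 ((hP _).1 a3), ht.2⟩
  have hN : 2 * pop (p.orN NC (row p.n p.F NC d.1) d.2) ≤ Nat.card (Subgroup.normalizer (P : Set G)) := by
    rw [pop_eq h.N_le n1]
    exact h.card_le (S := Subgroup.normalizer (P : Set G)) fun a _ ha e => n2 a ha e
  have hcP : Nat.card P = _ := h.card_eq hX
  have hcV : Nat.card (inVS P) = _ := h.card_eq hV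
  unfold cls at hc
  simp only [frc_eq, band_eq, bor_eq, Bool.and_eq_true, Bool.or_eq_true, blt_iff, ble_iff, beq_iff, shl_eq, nland, nxor,
    tb_eq] at hc
  rcases hc with hc | hc | ⟨a1, a2⟩ | ⟨-, a1, a2⟩ | a2
  · have h2 := h.q _ h1
    rw [hsq, hc] at h2
    have h3 : s 0 * zp z false = s (sq d.1) * zp z true := by
      rw [← h2, h.s0]
      exact mul_one _
    cases (h.inj (Nat.two_pow_pos _) (h.sqlt _ h1) h3).2
  · refine hL.proper (top_le_iff.1 fun y _ => (hP y).2 ?_)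
    obtain ⟨a, ha, e, rfl⟩ := h.span y
    by_contra h2
    have h3 := (hR.2 a ha e).2 h2
    rw [hc, Nat.zero_testBit] at h3
    cases h3
  · obtain ⟨t, b1, b2⟩ := anyM_spec _ _ a2
    obtain ⟨b3, b4, b5, b6⟩ := hT t b1
    rw [beq_iff] at b2
    refine nt_test hL hw2 hwc hz (by omega) b4 b5 b6 ?_
    rw [h.card_eq (hV.inter (h.rep_row b3)), hcV]
    omega
  · exact boxG2 G P A D _ hL hw2 hwc hz (by omega) (le_trans (le_of_eq hcV) (by omega))
  · obtain ⟨t, b1, b2⟩ := anyM_spec _ _ a2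
    obtain ⟨b3, b4, b5, b6⟩ := hT t b1
    exact h.shape_false hL hw hw2 hwc hz hX hV b3 b4 b5 b6 lev b2

end Ok

end Cfsg.Agent.FS.N.Sw
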