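import Cfsg.Agent.FS.N.Sw.Sem
import Cfsg.Agent.FS.Sw.Col

/-!
# The filter on pairs for bases of order up to `2 ^ 8`: colours (helper75, project FS; port of `FS/Sw`)
-/

set_option autoImplicit false

namespace Cfsg.Agent.FS.N.Sw

open Cfsg.Agent.FS.Pc Cfsg.Agent.FS.Sw Cfsg.Agent.FS.Th Finset

universe u

variable {G : Type u} [Group G]

namespace Ok

variable {p : Pre} {z : G} {s : ℕ → G} {c NC Q I : ℕ} {sq : ℕ → ℕ}

theorem testBit_cp (h : Ok p z s c NC Q I sq) {X : ℕ} (hX : X < 2 ^ 2 ^ p.n) (h0 : X.testBit 0 = true) {a b : ℕ}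
    (ha : a < 2 ^ p.n) (hb : b < 2 ^ p.n) :
    (p.cp NC X).testBit (2 ^ p.n * a + b) = (X.testBit a && !NC.testBit (2 ^ p.n * a + b)) := by
  have h2 := h.two_le
  have hF : 2 ^ 2 ^ p.n - 1 < 2 ^ 2 ^ p.n := Nat.sub_lt (Nat.two_pow_pos _) Nat.one_pos
  have h3 : 2 ^ p.n * a + b < 2 ^ p.n * 2 ^ p.n := by nlinarith
  unfold Pre.cp
  rw [h.hF, h.hF2, h.hO, h.hN, nland, nadd, nshl, nmul, nland, nmul, nshr, nxor, Nat.testBit_and, Nat.testBit_xor,
    Nat.testBit_two_pow_sub_one, decide_eq_true h3, Bool.true_xor, testBit_cat _ hF]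
  congr 1
  cases a with
  | zero => rw [Nat.mul_zero, Nat.zero_add, if_pos hb, Nat.testBit_two_pow_sub_one, decide_eq_true hb, h0]
  | succ a =>
    have h4 : 2 ^ p.n * (a + 1) + b - 2 ^ p.n = 2 ^ p.n * a + b := by rw [Nat.mul_succ]; omega
    have h5 : X >>> 1 < 2 ^ (2 ^ p.n - 1) := shiftRight_lt (r := 1) (by rwa [Nat.add_sub_cancel' (by omega)])
    have hY := land_ones_lt (s := 2 ^ p.n) (k := p.n) (by omega) (X >>> 1 * ones (2 ^ p.n - 1) p.n)
    have h6 : (X >>> 1 * ones (2 ^ p.n - 1) p.n).testBit (2 ^ p.n * a) = X.testBit (a + 1) := by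
      have h7 : 2 ^ p.n * a = (2 ^ p.n - 1) * a + a := by
        rw [← Nat.succ_mul, Nat.succ_eq_add_one, Nat.sub_add_cancel (by omega)]
      rw [h7, testBit_of_get (by omega), get_mul_ones h5 _ (by omega), Nat.testBit_shiftRight, Nat.add_comm]
    rw [if_neg (by rw [Nat.mul_succ]; omega), h4, testBit_of_get hb, Nat.pred_eq_sub_one,
      get_mul_const hF _ _ hY fun j => ?_, get_land_ones (by omega) (by omega), h6]
    · cases X.testBit (a + 1)
      · simp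
      · rw [cond_true, Nat.one_mul, Nat.testBit_two_pow_sub_one, decide_eq_true hb]
    · by_cases hj : j < 2 ^ p.n
      · rw [get_land_ones (by omega) hj]
        cases Nat.testBit _ _ <;> simp
      · rw [get_eq_zero_of_lt hY (not_lt.1 hj)]
        exact Nat.zero_le _

theorem cw_eq (h : Ok p z s c NC Q I sq) {X : ℕ} {P : Subgroup G} (hX : Rep p.n z s X P) {a : ℕ}
    (ha : a < 2 * 2 ^ p.n) : ∃ m, cw p NC Q X a = m % 255 ∧ Nat.card (Prs P (e2 z s a)) = m * 4 := by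
  have h2 := h.two_le
  have hN := h.N_le
  have hR := hX.inter (h.rep_rt ha)
  have h0 : X.testBit 0 = true := (hX.2 0 (by omega) false).2 (by rw [h.s0]; exact P.mul_mem P.one_mem P.one_mem)
  let Y := (X &&& p.rt Q a) * ones (2 ^ p.n) p.n &&& p.cp NC X
  have hY : Y < 2 ^ (2 ^ p.n * 2 ^ p.n) := Nat.lt_of_le_of_lt Nat.and_le_left (mul_ones_lt hR.1 _)
  have h3 : 2 ^ p.n * 2 ^ p.n ≤ 65543 := (Nat.mul_le_mul hN hN).trans (by norm_num)
  have hb : ∀ x y, x < 2 ^ p.n → y < 2 ^ p.n → ∀ e f, (Y.testBit (2 ^ p.n * x + y) = true ↔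
      (s x * zp z e, s y * zp z f) ∈ Prs P (e2 z s a)) := fun x y hx hy e f => by
    have h4 := h.nc x y hx hy
    rw [Nat.testBit_and, h.testBit_cp hX.1 h0 hx hy, testBit_of_get hy, get_mul_ones hR.1 _ hx, Bool.and_eq_true,
      Bool.and_eq_true, hR.2 y hy f, hX.2 x hx e, Bool.not_eq_true', ← Bool.not_eq_true, h4, not_not,
      ← h.comm_zp _ _ e f]
    exact ⟨fun ⟨⟨a1, a2⟩, a3, a4⟩ => ⟨a3, a1, a2, a4⟩, fun ⟨a3, a1, a2, a4⟩ => ⟨⟨a1, a2⟩, a3, a4⟩⟩
  refine ⟨cnt (2 ^ p.n * 2 ^ p.n) Y, ?_, ?_⟩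
  · have h4 : cw p NC Q X a = popG (ones 65543 3) (ones 8 17) Y := by
      unfold cw popG
      rw [rep_eq, h.hO]
      rfl
    rw [h4, popG_eq (m := 8193) (by norm_num) (by norm_num) (hY.trans_le (Nat.pow_le_pow_right Nat.two_pos h3)),
      cnt_of_lt hY h3]
  · have hd : ∀ i : Fin (2 ^ p.n * 2 ^ p.n), i.1 / 2 ^ p.n < 2 ^ p.n := fun i => Nat.div_lt_of_lt_mul i.2
    have hm : ∀ i : ℕ, i % 2 ^ p.n < 2 ^ p.n := fun i => Nat.mod_lt _ (by omega)
    let φ : {i : Fin (2 ^ p.n * 2 ^ p.n) // Y.testBit i = true} × Bool × Bool → Prs P (e2 z s a) := fun x =>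
      ⟨(s (x.1.1 / 2 ^ p.n) * zp z x.2.1, s (x.1.1 % 2 ^ p.n) * zp z x.2.2),
        (hb _ _ (hd _) (hm _) _ _).1 (by rw [Nat.div_add_mod]; exact x.1.2)⟩
    have h1 : Function.Bijective φ := ⟨fun x y hxy => by
      have h4 := congrArg Subtype.val hxy
      obtain ⟨a1, a2⟩ := h.inj (hd _) (hd _) (congrArg Prod.fst h4)
      obtain ⟨a3, a4⟩ := h.inj (hm _) (hm _) (congrArg Prod.snd h4)
      refine Prod.ext (Subtype.ext (Fin.ext ?_)) (Prod.ext a2 a4)
      rw [← Nat.div_add_mod x.1.1.1 (2 ^ p.n), a1, a3, Nat.div_add_mod], fun q => by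
      obtain ⟨x, hx, e, a1⟩ := h.span q.1.1
      obtain ⟨y, hy, f, a2⟩ := h.span q.1.2
      have a3 : q.1 = (s x * zp z e, s y * zp z f) := Prod.ext a1 a2
      refine ⟨(⟨⟨2 ^ p.n * x + y, by nlinarith⟩, (hb x y hx hy e f).2 (a3 ▸ q.2)⟩, e, f), Subtype.ext (Eq.trans ?_ a3.symm)⟩
      show (s ((2 ^ p.n * x + y) / 2 ^ p.n) * _, s ((2 ^ p.n * x + y) % 2 ^ p.n) * _) = _
      rw [Nat.mul_add_div (by omega), Nat.div_eq_of_lt hy, Nat.add_zero, Nat.mul_add_mod, Nat.mod_eq_of_lt hy]⟩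
    rw [← Nat.card_eq_of_bijective φ h1, Nat.card_prod, card_cnt, Nat.card_eq_fintype_card, Fintype.card_prod,
      Fintype.card_bool]

/-- Elements in one orbit of `Aut P` have the same colour. -/
theorem same_true (h : Ok p z s c NC Q I sq) {X : ℕ} {P : Subgroup G} (hX : Rep p.n z s X P) (lev : Bool) {a b : ℕ}
    (ha : a < 2 * 2 ^ p.n) (hb : b < 2 * 2 ^ p.n) (α : MulAut P) (haP : e2 z s a ∈ P)
    (hab : fn α (e2 z s a) = e2 z s b) : same p lev NC Q X a b = true := by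
  have h2 : c2 p Q X a = c2 p Q X b := by
    have h3 := card_fn α (S := P ∩ {y | y * y = e2 z s a}) (T := P ∩ {y | y * y = e2 z s b}) (fun _ hy => hy.1)
      (fun _ hy => hy.1) fun y hy => by
        refine and_congr (iff_of_true hy (fn_mem _ hy)) ?_
        rw [Set.mem_ofPred_eq, Set.mem_ofPred_eq, ← fn_map_mul α hy hy, ← hab]
        exact fn_eq_iff α (P.mul_mem hy hy) haP
    rw [h.card_eq (hX.inter (h.rep_rt ha)), h.card_eq (hX.inter (h.rep_rt hb))] at h3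
    exact Nat.eq_of_mul_eq_mul_left (by norm_num) h3
  have h4 : c4 p Q X a = c4 p Q X b := by
    have h3 := card_fn α (S := P ∩ {y | y * y ∈ {y | y * y = e2 z s a}}) (T := P ∩ {y | y * y ∈ {y | y * y = e2 z s b}})
      (fun _ hy => hy.1) (fun _ hy => hy.1) fun y hy => by
        have h5 := P.mul_mem hy hy
        refine and_congr (iff_of_true hy (fn_mem _ hy)) ?_
        simp only [Set.mem_ofPred_eq]
        rw [← fn_map_mul α hy hy, ← fn_map_mul α h5 h5, ← hab]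
        exact fn_eq_iff α (P.mul_mem h5 h5) haP
    rw [h.card_eq (hX.inter (h.rep_sqin (h.rep_rt ha))), h.card_eq (hX.inter (h.rep_sqin (h.rep_rt hb)))] at h3
    exact Nat.eq_of_mul_eq_mul_left (by norm_num) h3
  have h5 : cw p NC Q X a = cw p NC Q X b := by
    obtain ⟨m, a1, a2⟩ := h.cw_eq hX ha
    obtain ⟨m', b1, b2⟩ := h.cw_eq hX hb
    rw [card_prs α haP, hab, b2] at a2
    rw [a1, b1, Nat.eq_of_mul_eq_mul_right (by norm_num) a2]
  unfold same
  rw [h2, h4, h5, Nat.beq_refl, Nat.beq_refl, Nat.beq_refl]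
  cases lev <;> rfl

end Ok

end Cfsg.Agent.FS.N.Sw
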