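import Cfsg.Agent.FS.N.Sw.Eng
import Cfsg.Agent.FS.Gen.Iso

/-!
# The filter on pairs for bases of order up to `2 ^ 8`: the jobs (helper75, project FS; port of `FS/Sw`)
-/

set_option autoImplicit false

namespace Cfsg.Agent.FS.N.Sw

open Pc (Base)
open Gen (Ic isoK look)

/-- the filter on the representatives `lo, …, lo + k - 1`, and the isomorphisms from the survivors -/
noncomputable def seg (n : ℕ) (SS : List (List Base)) (B : Base) (cd lo k ce : ℕ) (ics : List (ℕ × Ic)) : Bool :=
  Gen.band (chk n B cd lo k ce (ics.map Prod.fst)) (List.rec (motive := fun _ => Bool) true (fun _ _ _ =>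
    isoK n SS B.r B.w B.rel fun ck => Gen.allL (fun p => Gen.frc (Gen.gt B.r B.reps p.1) fun c => ck c p.2) ics) ics)

/-- a segment of the base number `j` -/
structure Job where
  j : ℕ
  cd : ℕ
  lo : ℕ
  k : ℕ
  ce : ℕ
  ics : List (ℕ × Ic)

/-- a list of segments -/
noncomputable def jobs (n : ℕ) (SS : List (List Base)) (l : List Base) (Js : List Job) : Bool :=
  Gen.allL (fun J => look (fun B => seg n SS B J.cd J.lo J.k J.ce J.ics) l J.j) Js

/-- the segments of the base number `j` cover the numbers below this one (the last segment comes first) -/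
noncomputable def reach (j : ℕ) (Js : List Job) : ℕ := List.rec 0 (fun J _ a => Gen.frc a fun a =>
  Bool.rec a (Nat.add J.lo J.k) (Gen.band (Nat.beq J.j j) (Nat.beq J.lo a))) Js

/-- the segments cover all representatives -/
noncomputable def cov (l : List Base) (Js : List Job) : Bool :=
  Gen.allB l.length fun j => look (fun B => Nat.ble B.cnt (reach j Js)) l j

/-- every representative is in a segment which passes the check -/
def Dn (n : ℕ) (SS : List (List Base)) (l : List Base) : Prop := ∀ B ∈ l, ∀ i, i < B.cnt →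
  ∃ cd lo k ce ics, lo ≤ i ∧ i < lo + k ∧ seg n SS B cd lo k ce ics = true

theorem look_get {α : Type} {p : α → Bool} : ∀ {L : List α} {k : ℕ} (hk : k < L.length), look p L k = p L[k]
  | _ :: _, 0, _ => rfl
  | _ :: L, k + 1, hk => look_get (L := L) (k := k) (Nat.lt_of_succ_lt_succ hk)

theorem reach_spec {j : ℕ} : ∀ {Js : List Job} {i : ℕ}, i < reach j Js → ∃ J ∈ Js, J.j = j ∧ J.lo ≤ i ∧ i < J.lo + J.k
  | [], _, h => absurd h (Nat.not_lt_zero _)
  | J :: Js, i, h => by
    have e : reach j (J :: Js) = Bool.rec (motive := fun _ => ℕ) (reach j Js) (J.lo + J.k)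
      (Gen.band (Nat.beq J.j j) (Nat.beq J.lo (reach j Js))) := Gen.frc_eq (reach j Js) fun a =>
        Bool.rec (motive := fun _ => ℕ) a (Nat.add J.lo J.k) (Gen.band (Nat.beq J.j j) (Nat.beq J.lo a))
    by_cases h1 : i < reach j Js
    · obtain ⟨K, h2, h3⟩ := reach_spec h1
      exact ⟨K, List.mem_cons_of_mem _ h2, h3⟩
    · rw [e] at h
      cases h2 : Gen.band (Nat.beq J.j j) (Nat.beq J.lo (reach j Js))
      · rw [h2] at h
        exact absurd h h1
      · rw [h2] at h
        obtain ⟨h3, h4⟩ := Gen.band_spec h2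
        refine ⟨J, List.mem_cons_self, Nat.eq_of_beq_eq_true h3, ?_, h⟩
        rw [Nat.eq_of_beq_eq_true h4]
        exact Nat.le_of_not_lt h1

theorem jobs_append {n : ℕ} {SS : List (List Base)} {l : List Base} {Js Ks : List Job} (h1 : jobs n SS l Js = true)
    (h2 : ∀ J ∈ Ks, look (fun B => seg n SS B J.cd J.lo J.k J.ce J.ics) l J.j = true) :
    ∀ J ∈ Js ++ Ks, look (fun B => seg n SS B J.cd J.lo J.k J.ce J.ics) l J.j = true := fun J hJ =>
  (List.mem_append.1 hJ).elim (Gen.allL_spec h1 J) (h2 J)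

theorem dn_of {n : ℕ} {SS : List (List Base)} {l : List Base} {Js : List Job}
    (h : ∀ J ∈ Js, look (fun B => seg n SS B J.cd J.lo J.k J.ce J.ics) l J.j = true) (hc : cov l Js = true) :
    Dn n SS l := by
  intro B hB i hi
  obtain ⟨j, hj, rfl⟩ := List.getElem_of_mem hB
  have h1 := Gen.allB_spec hc j hj
  rw [look_get hj] at h1
  obtain ⟨J, h2, h3, h4, h5⟩ := reach_spec (hi.trans_le (Nat.le_of_ble_eq_true h1))
  have h6 := h J h2
  rw [h3, look_get hj] at h6
  exact ⟨_, _, _, _, _, h4, h5, h6⟩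

universe u

theorem seg_spec {n : ℕ} {SS : List (List Base)} {B : Base} {cd lo k ce : ℕ} {ics : List (ℕ × Ic)}
    (h : seg n SS B cd lo k ce ics = true) : chk n B cd lo k ce (ics.map Prod.fst) = true ∧ ∀ i ∈ ics.map Prod.fst,
      ∀ (G : Type u) [Group G] (z : G) (x : ℕ → G), Pc.Ext z x (Pc.get B.r B.reps i) B.r n B.w B.rel →
        ∃ l ∈ SS, ∃ T ∈ l, ∃ y : ℕ → G, Gen.P0 (n + 1) T y := by
  obtain ⟨h1, h2⟩ := Gen.band_spec h
  refine ⟨h1, fun i hi G _ z x hx => ?_⟩
  obtain ⟨p, hp, rfl⟩ := List.mem_map.1 hi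
  cases ics with
  | nil => cases hp
  | cons q ics =>
    obtain ⟨ck, h3, h4⟩ := Gen.isoK_spec.{u} h2
    have h5 := Gen.allL_spec h3 p hp
    rw [Gen.frc_eq] at h5
    refine h4 _ _ h5 G z x ?_
    rw [Gen.gt_eq]
    exact hx

end Cfsg.Agent.FS.N.Sw
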