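import Cfsg.Agent.FS.N.Sw.Snd
import Cfsg.Agent.FS.N.Sw.Seg
import Cfsg.Agent.FS.N.G.Defs

/-!
# The filter on pairs for bases of order up to `2 ^ 8`: the result (helper75, project FS; port of `FS/Sw`)
-/

set_option autoImplicit false

namespace Cfsg.Agent.FS.N.Sw

open Pc (Base)

/-- **The sweep over a list of bases.** -/
theorem swp_of_dn {n : ℕ} {SS : List (List Base)} {l : List Base} (h : Dn n SS l) : G.Swp n SS l := by
  rintro T hT A _ _ F z P hF hz ⟨i, hi, x, hx⟩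
  obtain ⟨cd, lo, k, ce, ics, h1, h2, h3⟩ := h T hT i hi
  obtain ⟨h4, h5⟩ := seg_spec.{0} h3
  exact h5 i (chk_sound h4 h1 h2 hx hF hz) A z x hx

end Cfsg.Agent.FS.N.Sw
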