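import Cfsg.Agent.FS.N.Sw.D.D00
import Cfsg.Agent.FS.N.Sw.D.D01
import Cfsg.Agent.FS.N.Sw.D.D02
import Cfsg.Agent.FS.N.Sw.D.D03
import Cfsg.Agent.FS.N.Sw.D.D04
import Cfsg.Agent.FS.N.Sw.D.D05
import Cfsg.Agent.FS.N.Sw.D.D06
import Cfsg.Agent.FS.N.Sw.D.D07
import Cfsg.Agent.FS.N.Sw.D.D08
import Cfsg.Agent.FS.N.Sw.D.D09
import Cfsg.Agent.FS.N.Sw.D.D10
import Cfsg.Agent.FS.N.Sw.D.D11
import Cfsg.Agent.FS.N.Sw.D.D12
import Cfsg.Agent.FS.N.Sw.D.D13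
import Cfsg.Agent.FS.N.Sw.D.D14
import Cfsg.Agent.FS.N.Sw.D.D15
import Cfsg.Agent.FS.N.Sw.D.D16
import Cfsg.Agent.FS.N.Sw.D.D17
import Cfsg.Agent.FS.N.Sw.D.D18
import Cfsg.Agent.FS.N.Sw.D.D19
import Cfsg.Agent.FS.N.Sw.D.D20
import Cfsg.Agent.FS.N.Sw.D.D21
import Cfsg.Agent.FS.N.Sw.D.D22
import Cfsg.Agent.FS.N.Sw.D.D23
import Cfsg.Agent.FS.N.Sw.D.D24
import Cfsg.Agent.FS.N.Sw.D.D25
import Cfsg.Agent.FS.N.Sw.D.D26
import Cfsg.Agent.FS.N.Sw.D.D27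
import Cfsg.Agent.FS.N.Sw.D.D28
import Cfsg.Agent.FS.N.Sw.D.D29
import Cfsg.Agent.FS.N.Sw.D.D30
import Cfsg.Agent.FS.N.Sw.D.D31
import Cfsg.Agent.FS.N.Sw.D.D32
import Cfsg.Agent.FS.N.Sw.D.D33
import Cfsg.Agent.FS.N.Sw.D.D34
import Cfsg.Agent.FS.N.Sw.D.D35
import Cfsg.Agent.FS.N.Sw.D.D36
import Cfsg.Agent.FS.N.Sw.D.D37
import Cfsg.Agent.FS.N.Sw.D.D38
import Cfsg.Agent.FS.N.Sw.D.D39
import Cfsg.Agent.FS.N.Sw.D.D40
import Cfsg.Agent.FS.N.Sw.D.D41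
import Cfsg.Agent.FS.N.Sw.D.D42
import Cfsg.Agent.FS.N.Sw.D.D43
import Cfsg.Agent.FS.N.Sw.D.D44
import Cfsg.Agent.FS.N.Sw.D.D45
import Cfsg.Agent.FS.N.Sw.D.D46
import Cfsg.Agent.FS.N.Sw.D.D47
import Cfsg.Agent.FS.N.Sw.D.D48
import Cfsg.Agent.FS.N.Sw.D.D49
import Cfsg.Agent.FS.N.Sw.D.D50
import Cfsg.Agent.FS.N.Sw.D.D51
import Cfsg.Agent.FS.N.Sw.D.D52
import Cfsg.Agent.FS.N.Sw.D.D53
import Cfsg.Agent.FS.N.Sw.D.D54
import Cfsg.Agent.FS.N.Sw.D.D55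
import Cfsg.Agent.FS.N.Sw.D.D56
import Cfsg.Agent.FS.N.Sw.D.D57
import Cfsg.Agent.FS.N.Sw.D.D58
import Cfsg.Agent.FS.N.Sw.D.D59
import Cfsg.Agent.FS.N.Sw.D.D60
import Cfsg.Agent.FS.N.Sw.D.D61
import Cfsg.Agent.FS.N.Sw.D.D62
import Cfsg.Agent.FS.N.Sw.D.D63
import Cfsg.Agent.FS.N.Sw.D.D64
import Cfsg.Agent.FS.N.Sw.D.D65
import Cfsg.Agent.FS.N.Sw.D.D66
import Cfsg.Agent.FS.N.Sw.D.D67
import Cfsg.Agent.FS.N.Sw.D.D68
import Cfsg.Agent.FS.N.Sw.D.D69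
import Cfsg.Agent.FS.N.Sw.D.D70
import Cfsg.Agent.FS.N.Sw.D.D71
import Cfsg.Agent.FS.N.Sw.D.D72
import Cfsg.Agent.FS.N.Sw.D.D73
import Cfsg.Agent.FS.N.Sw.D.D74
import Cfsg.Agent.FS.N.Sw.D.D75
import Cfsg.Agent.FS.N.Sw.D.D76
import Cfsg.Agent.FS.N.Sw.D.D77
import Cfsg.Agent.FS.N.Sw.D.D78
import Cfsg.Agent.FS.N.Sw.D.D79
import Cfsg.Agent.FS.N.Sw.Main
import Cfsg.Agent.FS.N.G.L8

/-! The filter on the pairs for the order 512: all representatives are covered (generated; helper52, project FS) -/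

set_option autoImplicit false
set_option maxRecDepth 100000
set_option Elab.async false

namespace Cfsg.Agent.FS.N.Sw

open G

theorem dn_cons {l : List Pc.Base} {L : List (List Pc.Base)} (h1 : Dn 8 S9 l) (h2 : ∀ x ∈ L, Dn 8 S9 x) :
    ∀ x ∈ l :: L, Dn 8 S9 x := List.forall_mem_cons.2 ⟨h1, h2⟩

theorem dn9 : ∀ l ∈ L8, Dn 8 S9 l :=
  dn_cons d9_0 <|
  dn_cons d9_1 <|
  dn_cons d9_2 <|
  dn_cons d9_3 <|
  dn_cons d9_4 <|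
  dn_cons d9_5 <|
  dn_cons d9_6 <|
  dn_cons d9_7 <|
  dn_cons d9_8 <|
  dn_cons d9_9 <|
  dn_cons d9_10 <|
  dn_cons d9_11 <|
  dn_cons d9_12 <|
  dn_cons d9_13 <|
  dn_cons d9_14 <|
  dn_cons d9_15 <|
  dn_cons d9_16 <|
  dn_cons d9_17 <|
  dn_cons d9_18 <|
  dn_cons d9_19 <|
  dn_cons d9_20 <|
  dn_cons d9_21 <|
  dn_cons d9_22 <|
  dn_cons d9_23 <|
  dn_cons d9_24 <|
  dn_cons d9_25 <|
  dn_cons d9_26 <|
  dn_cons d9_27 <|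
  dn_cons d9_28 <|
  dn_cons d9_29 <|
  dn_cons d9_30 <|
  dn_cons d9_31 <|
  dn_cons d9_32 <|
  dn_cons d9_33 <|
  dn_cons d9_34 <|
  dn_cons d9_35 <|
  dn_cons d9_36 <|
  dn_cons d9_37 <|
  dn_cons d9_38 <|
  dn_cons d9_39 <|
  dn_cons d9_40 <|
  dn_cons d9_41 <|
  dn_cons d9_42 <|
  dn_cons d9_43 <|
  dn_cons d9_44 <|
  dn_cons d9_45 <|
  dn_cons d9_46 <|
  dn_cons d9_47 <|
  dn_cons d9_48 <|
  dn_cons d9_49 <|
  dn_cons d9_50 <|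
  dn_cons d9_51 <|
  dn_cons d9_52 <|
  dn_cons d9_53 <|
  dn_cons d9_54 <|
  dn_cons d9_55 <|
  dn_cons d9_56 <|
  dn_cons d9_57 <|
  dn_cons d9_58 <|
  dn_cons d9_59 <|
  dn_cons d9_60 <|
  dn_cons d9_61 <|
  dn_cons d9_62 <|
  dn_cons d9_63 <|
  dn_cons d9_64 <|
  dn_cons d9_65 <|
  dn_cons d9_66 <|
  dn_cons d9_67 <|
  dn_cons d9_68 <|
  dn_cons d9_69 <|
  dn_cons d9_70 <|
  dn_cons d9_71 <|
  dn_cons d9_72 <|
  dn_cons d9_73 <|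
  dn_cons d9_74 <|
  dn_cons d9_75 <|
  dn_cons d9_76 <|
  dn_cons d9_77 <|
  dn_cons d9_78 <|
  dn_cons d9_79 <|
  dn_cons d9_80 <|
  dn_cons d9_81 <|
  dn_cons d9_82 <|
  dn_cons d9_83 <|
  dn_cons d9_84 <|
  dn_cons d9_85 <|
  dn_cons d9_86 <|
  dn_cons d9_87 <|
  dn_cons d9_88 <|
  dn_cons d9_89 <|
  dn_cons d9_90 <|
  dn_cons d9_91 <|
  dn_cons d9_92 <|
  dn_cons d9_93 <|
  dn_cons d9_94 <|
  dn_cons d9_95 <|
  dn_cons d9_96 <|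
  dn_cons d9_97 <|
  dn_cons d9_98 <|
  dn_cons d9_99 <|
  dn_cons d9_100 <|
  dn_cons d9_101 <|
  dn_cons d9_102 <|
  dn_cons d9_103 <|
  dn_cons d9_104 <|
  dn_cons d9_105 <|
  dn_cons d9_106 <|
  dn_cons d9_107 <|
  dn_cons d9_108 <|
  dn_cons d9_109 <|
  dn_cons d9_110 <|
  dn_cons d9_111 <|
  dn_cons d9_112 <|
  dn_cons d9_113 <|
  dn_cons d9_114 <|
  dn_cons d9_115 <|
  dn_cons d9_116 <|
  dn_cons d9_117 <|
  dn_cons d9_118 <|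
  dn_cons d9_119 <|
  dn_cons d9_120 <|
  dn_cons d9_121 <|
  dn_cons d9_122 <|
  dn_cons d9_123 <|
  dn_cons d9_124 <|
  dn_cons d9_125 <|
  dn_cons d9_126 <|
  dn_cons d9_127 <|
  dn_cons d9_128 <|
  dn_cons d9_129 <|
  dn_cons d9_130 <|
  dn_cons d9_131 <|
  dn_cons d9_132 <|
  dn_cons d9_133 <|
  dn_cons d9_134 <|
  dn_cons d9_135 <|
  dn_cons d9_136 <|
  dn_cons d9_137 <|
  dn_cons d9_138 <|
  dn_cons d9_139 <|
  dn_cons d9_140 <|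
  dn_cons d9_141 <|
  dn_cons d9_142 <|
  dn_cons d9_143 <|
  dn_cons d9_144 <|
  dn_cons d9_145 <|
  dn_cons d9_146 <|
  dn_cons d9_147 <|
  dn_cons d9_148 <|
  dn_cons d9_149 <|
  dn_cons d9_150 <|
  dn_cons d9_151 <|
  dn_cons d9_152 <|
  dn_cons d9_153 <|
  dn_cons d9_154 <|
  dn_cons d9_155 <|
  dn_cons d9_156 <|
  dn_cons d9_157 <|
  dn_cons d9_158 <|
  dn_cons d9_159 <|
  dn_cons d9_160 <|
  dn_cons d9_161 <|
  dn_cons d9_162 <|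
  dn_cons d9_163 <|
  dn_cons d9_164 <|
  dn_cons d9_165 <|
  dn_cons d9_166 <|
  dn_cons d9_167 <|
  dn_cons d9_168 <|
  dn_cons d9_169 <|
  dn_cons d9_170 <|
  dn_cons d9_171 <|
  dn_cons d9_172 <|
  dn_cons d9_173 <|
  dn_cons d9_174 <|
  dn_cons d9_175 <|
  dn_cons d9_176 <|
  dn_cons d9_177 <|
  dn_cons d9_178 <|
  dn_cons d9_179 <|
  dn_cons d9_180 <|
  dn_cons d9_181 <|
  dn_cons d9_182 <|
  dn_cons d9_183 <|
  dn_cons d9_184 <|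
  dn_cons d9_185 <|
  dn_cons d9_186 <|
  dn_cons d9_187 <|
  dn_cons d9_188 <|
  dn_cons d9_189 <|
  dn_cons d9_190 <|
  dn_cons d9_191 <|
  dn_cons d9_192 <|
  dn_cons d9_193 <|
  dn_cons d9_194 <|
  dn_cons d9_195 <|
  dn_cons d9_196 <|
  dn_cons d9_197 <|
  dn_cons d9_198 <|
  dn_cons d9_199 <|
  dn_cons d9_200 <|
  dn_cons d9_201 <|
  dn_cons d9_202 <|
  dn_cons d9_203 <|
  dn_cons d9_204 <|
  dn_cons d9_205 <|
  dn_cons d9_206 <|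
  dn_cons d9_207 <|
  dn_cons d9_208 <|
  dn_cons d9_209 <|
  dn_cons d9_210 <|
  dn_cons d9_211 <|
  dn_cons d9_212 <|
  dn_cons d9_213 <|
  dn_cons d9_214 <|
  dn_cons d9_215 <|
  dn_cons d9_216 <|
  dn_cons d9_217 <|
  dn_cons d9_218 <|
  dn_cons d9_219 <|
  dn_cons d9_220 <|
  dn_cons d9_221 <|
  dn_cons d9_222 <|
  dn_cons d9_223 <|
  dn_cons d9_224 <|
  dn_cons d9_225 <|
  dn_cons d9_226 <|
  dn_cons d9_227 <|
  dn_cons d9_228 <|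
  dn_cons d9_229 <|
  dn_cons d9_230 <|
  dn_cons d9_231 <|
  dn_cons d9_232 <|
  dn_cons d9_233 <|
  dn_cons d9_234 <|
  dn_cons d9_235 <|
  dn_cons d9_236 <|
  dn_cons d9_237 <|
  dn_cons d9_238 <|
  dn_cons d9_239 <|
  dn_cons d9_240 <|
  dn_cons d9_241 <|
  dn_cons d9_242 <|
  dn_cons d9_243 <|
  dn_cons d9_244 <|
  dn_cons d9_245 <|
  dn_cons d9_246 <|
  dn_cons d9_247 <|
  dn_cons d9_248 <|
  dn_cons d9_249 <|
  dn_cons d9_250 <|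
  dn_cons d9_251 <|
  dn_cons d9_252 <|
  dn_cons d9_253 <|
  dn_cons d9_254 <|
  dn_cons d9_255 <|
  dn_cons d9_256 <|
  dn_cons d9_257 <|
  dn_cons d9_258 <|
  dn_cons d9_259 <|
  dn_cons d9_260 <|
  dn_cons d9_261 <|
  dn_cons d9_262 <|
  dn_cons d9_263 <|
  dn_cons d9_264 <|
  dn_cons d9_265 <|
  dn_cons d9_266 <|
  dn_cons d9_267 <|
  dn_cons d9_268 <|
  dn_cons d9_269 <|
  dn_cons d9_270 <|
  dn_cons d9_271 <|
  dn_cons d9_272 <|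
  dn_cons d9_273 <|
  dn_cons d9_274 <|
  dn_cons d9_275 <|
  dn_cons d9_276 <|
  dn_cons d9_277 <|
  dn_cons d9_278 <|
  dn_cons d9_279 <|
  dn_cons d9_280 <|
  dn_cons d9_281 <|
  dn_cons d9_282 <|
  dn_cons d9_283 <|
  dn_cons d9_284 <|
  dn_cons d9_285 <|
  dn_cons d9_286 <|
  dn_cons d9_287 <|
  dn_cons d9_288 <|
  dn_cons d9_289 <|
  dn_cons d9_290 <|
  dn_cons d9_291 <|
  dn_cons d9_292 <|
  dn_cons d9_293 <|
  dn_cons d9_294 <|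
  dn_cons d9_295 <|
  dn_cons d9_296 <|
  dn_cons d9_297 <|
  dn_cons d9_298 <|
  dn_cons d9_299 <|
  dn_cons d9_300 <|
  dn_cons d9_301 <|
  dn_cons d9_302 <|
  dn_cons d9_303 <|
  dn_cons d9_304 <|
  dn_cons d9_305 <|
  dn_cons d9_306 <|
  dn_cons d9_307 <|
  dn_cons d9_308 <|
  dn_cons d9_309 <|
  dn_cons d9_310 <|
  dn_cons d9_311 <|
  dn_cons d9_312 <|
  dn_cons d9_313 <|
  dn_cons d9_314 <|
  dn_cons d9_315 <|
  dn_cons d9_316 <|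
  dn_cons d9_317 <|
  dn_cons d9_318 <|
  dn_cons d9_319 <|
  dn_cons d9_320 <|
  dn_cons d9_321 <|
  dn_cons d9_322 <|
  dn_cons d9_323 <|
  dn_cons d9_324 <|
  dn_cons d9_325 <|
  dn_cons d9_326 <|
  dn_cons d9_327 <|
  dn_cons d9_328 <|
  dn_cons d9_329 <|
  dn_cons d9_330 <|
  dn_cons d9_331 <|
  dn_cons d9_332 <|
  dn_cons d9_333 <|
  dn_cons d9_334 <|
  dn_cons d9_335 <|
  dn_cons d9_336 <|
  dn_cons d9_337 <|
  dn_cons d9_338 <|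
  dn_cons d9_339 <|
  dn_cons d9_340 <|
  dn_cons d9_341 <|
  dn_cons d9_342 <|
  dn_cons d9_343 <|
  dn_cons d9_344 <|
  dn_cons d9_345 <|
  dn_cons d9_346 <|
  dn_cons d9_347 <|
  dn_cons d9_348 <|
  dn_cons d9_349 <|
  dn_cons d9_350 <|
  dn_cons d9_351 <|
  dn_cons d9_352 <|
  dn_cons d9_353 <|
  dn_cons d9_354 <|
  dn_cons d9_355 <|
  dn_cons d9_356 <|
  dn_cons d9_357 <|
  dn_cons d9_358 <|
  dn_cons d9_359 <|
  dn_cons d9_360 <|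
  dn_cons d9_361 <|
  dn_cons d9_362 <|
  dn_cons d9_363 <|
  dn_cons d9_364 <|
  dn_cons d9_365 <|
  dn_cons d9_366 <|
  dn_cons d9_367 <|
  dn_cons d9_368 <|
  dn_cons d9_369 <|
  dn_cons d9_370 <|
  dn_cons d9_371 <|
  dn_cons d9_372 <|
  dn_cons d9_373 <|
  dn_cons d9_374 <|
  dn_cons d9_375 <|
  dn_cons d9_376 <|
  dn_cons d9_377 <|
  dn_cons d9_378 <|
  dn_cons d9_379 <|
  dn_cons d9_380 <|
  dn_cons d9_381 <|
  dn_cons d9_382 <|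
  dn_cons d9_383 <|
  dn_cons d9_384 <|
  dn_cons d9_385 <|
  dn_cons d9_386 <|
  dn_cons d9_387 <|
  dn_cons d9_388 <|
  dn_cons d9_389 <|
  dn_cons d9_390 <|
  dn_cons d9_391 <|
  dn_cons d9_392 <|
  dn_cons d9_393 <|
  dn_cons d9_394 <|
  dn_cons d9_395 <|
  dn_cons d9_396 <|
  dn_cons d9_397 <|
  dn_cons d9_398 <|
  dn_cons d9_399 <|
  dn_cons d9_400 <|
  dn_cons d9_401 <|
  dn_cons d9_402 <|
  dn_cons d9_403 <|
  dn_cons d9_404 <|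
  dn_cons d9_405 <|
  dn_cons d9_406 <|
  dn_cons d9_407 <|
  dn_cons d9_408 <|
  dn_cons d9_409 <|
  dn_cons d9_410 <|
  dn_cons d9_411 <|
  dn_cons d9_412 <|
  dn_cons d9_413 <|
  dn_cons d9_414 <|
  dn_cons d9_415 <|
  dn_cons d9_416 <|
  dn_cons d9_417 <|
  dn_cons d9_418 <|
  dn_cons d9_419 <|
  dn_cons d9_420 <|
  dn_cons d9_421 <|
  dn_cons d9_422 <|
  dn_cons d9_423 <|
  dn_cons d9_424 <|
  dn_cons d9_425 <|
  dn_cons d9_426 <|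
  dn_cons d9_427 <|
  dn_cons d9_428 <|
  dn_cons d9_429 <|
  dn_cons d9_430 <|
  dn_cons d9_431 <|
  dn_cons d9_432 <|
  dn_cons d9_433 <|
  dn_cons d9_434 <|
  dn_cons d9_435 <|
  dn_cons d9_436 <|
  dn_cons d9_437 <|
  dn_cons d9_438 <|
  dn_cons d9_439 <|
  dn_cons d9_440 <|
  dn_cons d9_441 <|
  dn_cons d9_442 <|
  dn_cons d9_443 <|
  dn_cons d9_444 <|
  dn_cons d9_445 <|
  dn_cons d9_446 <|
  dn_cons d9_447 <|
  dn_cons d9_448 <|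
  dn_cons d9_449 <|
  dn_cons d9_450 <|
  dn_cons d9_451 <|
  dn_cons d9_452 <|
  dn_cons d9_453 <|
  dn_cons d9_454 <|
  dn_cons d9_455 <|
  dn_cons d9_456 <|
  dn_cons d9_457 <|
  dn_cons d9_458 <|
  dn_cons d9_459 <|
  dn_cons d9_460 <|
  dn_cons d9_461 <|
  dn_cons d9_462 <|
  dn_cons d9_463 <|
  dn_cons d9_464 <|
  dn_cons d9_465 <|
  dn_cons d9_466 <|
  dn_cons d9_467 <|
  dn_cons d9_468 <|
  dn_cons d9_469 <|
  dn_cons d9_470 <|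
  dn_cons d9_471 <|
  dn_cons d9_472 <|
  dn_cons d9_473 <|
  dn_cons d9_474 <|
  dn_cons d9_475 <|
  dn_cons d9_476 <|
  dn_cons d9_477 <|
  dn_cons d9_478 <|
  dn_cons d9_479 <|
  dn_cons d9_480 <|
  dn_cons d9_481 <|
  dn_cons d9_482 <|
  dn_cons d9_483 <|
  dn_cons d9_484 <|
  dn_cons d9_485 <|
  dn_cons d9_486 <|
  dn_cons d9_487 <|
  dn_cons d9_488 <|
  dn_cons d9_489 <|
  dn_cons d9_490 <|
  dn_cons d9_491 <|
  dn_cons d9_492 <|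
  dn_cons d9_493 <|
  dn_cons d9_494 <|
  dn_cons d9_495 <|
  dn_cons d9_496 <|
  dn_cons d9_497 <|
  dn_cons d9_498 <|
  dn_cons d9_499 <|
  dn_cons d9_500 <|
  dn_cons d9_501 <|
  dn_cons d9_502 <|
  dn_cons d9_503 <|
  dn_cons d9_504 <|
  dn_cons d9_505 <|
  dn_cons d9_506 <|
  dn_cons d9_507 <|
  dn_cons d9_508 <|
  dn_cons d9_509 <|
  dn_cons d9_510 <|
  dn_cons d9_511 <|
  dn_cons d9_512 <|
  dn_cons d9_513 <|
  dn_cons d9_514 <|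
  dn_cons d9_515 <|
  dn_cons d9_516 <|
  dn_cons d9_517 <|
  dn_cons d9_518 <|
  dn_cons d9_519 <|
  dn_cons d9_520 <|
  dn_cons d9_521 <|
  dn_cons d9_522 <|
  dn_cons d9_523 <|
  dn_cons d9_524 <|
  dn_cons d9_525 <|
  dn_cons d9_526 <|
  dn_cons d9_527 <|
  dn_cons d9_528 <|
  dn_cons d9_529 <|
  dn_cons d9_530 <|
  dn_cons d9_531 <|
  dn_cons d9_532 <|
  dn_cons d9_533 <|
  dn_cons d9_534 <|
  dn_cons d9_535 <|
  dn_cons d9_536 <|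
  dn_cons d9_537 <|
  dn_cons d9_538 <|
  dn_cons d9_539 <|
  dn_cons d9_540 <|
  dn_cons d9_541 <|
  dn_cons d9_542 <|
  dn_cons d9_543 <|
  dn_cons d9_544 <|
  dn_cons d9_545 <|
  dn_cons d9_546 <|
  dn_cons d9_547 <|
  dn_cons d9_548 <|
  dn_cons d9_549 <|
  dn_cons d9_550 <|
  dn_cons d9_551 <|
  dn_cons d9_552 <|
  dn_cons d9_553 <|
  dn_cons d9_554 <|
  dn_cons d9_555 <|
  dn_cons d9_556 <|
  dn_cons d9_557 <|
  dn_cons d9_558 <|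
  dn_cons d9_559 <|
  dn_cons d9_560 <|
  dn_cons d9_561 <|
  dn_cons d9_562 <|
  dn_cons d9_563 <|
  dn_cons d9_564 <|
  dn_cons d9_565 <|
  dn_cons d9_566 <|
  dn_cons d9_567 <|
  dn_cons d9_568 <|
  dn_cons d9_569 <|
  dn_cons d9_570 <|
  dn_cons d9_571 <|
  dn_cons d9_572 <|
  dn_cons d9_573 <|
  dn_cons d9_574 <|
  dn_cons d9_575 <|
  dn_cons d9_576 <|
  dn_cons d9_577 <|
  dn_cons d9_578 <|
  dn_cons d9_579 <|
  dn_cons d9_580 <|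
  dn_cons d9_581 <|
  dn_cons d9_582 <|
  dn_cons d9_583 <|
  dn_cons d9_584 <|
  dn_cons d9_585 <|
  dn_cons d9_586 <|
  dn_cons d9_587 <|
  dn_cons d9_588 <|
  dn_cons d9_589 <|
  dn_cons d9_590 <|
  dn_cons d9_591 <|
  dn_cons d9_592 <|
  dn_cons d9_593 <|
  dn_cons d9_594 <|
  dn_cons d9_595 <|
  dn_cons d9_596 <|
  dn_cons d9_597 <|
  dn_cons d9_598 <|
  dn_cons d9_599 <|
  dn_cons d9_600 <|
  dn_cons d9_601 <|
  dn_cons d9_602 <|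
  dn_cons d9_603 <|
  dn_cons d9_604 <|
  dn_cons d9_605 <|
  dn_cons d9_606 <|
  dn_cons d9_607 <|
  dn_cons d9_608 <|
  dn_cons d9_609 <|
  dn_cons d9_610 <|
  dn_cons d9_611 <|
  dn_cons d9_612 <|
  dn_cons d9_613 <|
  dn_cons d9_614 <|
  dn_cons d9_615 <|
  dn_cons d9_616 <|
  dn_cons d9_617 <|
  dn_cons d9_618 <|
  dn_cons d9_619 <|
  dn_cons d9_620 <|
  dn_cons d9_621 <|
  dn_cons d9_622 <|
  dn_cons d9_623 <|
  dn_cons d9_624 <|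
  dn_cons d9_625 <|
  dn_cons d9_626 <|
  dn_cons d9_627 <|
  dn_cons d9_628 <|
  dn_cons d9_629 <|
  dn_cons d9_630 <|
  dn_cons d9_631 <|
  dn_cons d9_632 <|
  dn_cons d9_633 <|
  dn_cons d9_634 <|
  dn_cons d9_635 <|
  dn_cons d9_636 <|
  dn_cons d9_637 <|
  dn_cons d9_638 <|
  dn_cons d9_639 <|
  dn_cons d9_640 <|
  dn_cons d9_641 <|
  dn_cons d9_642 <|
  dn_cons d9_643 <|
  dn_cons d9_644 <|
  dn_cons d9_645 <|
  dn_cons d9_646 <|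
  dn_cons d9_647 <|
  dn_cons d9_648 <|
  dn_cons d9_649 <|
  dn_cons d9_650 <|
  dn_cons d9_651 <|
  dn_cons d9_652 <|
  dn_cons d9_653 <|
  dn_cons d9_654 <|
  dn_cons d9_655 <|
  dn_cons d9_656 <|
  dn_cons d9_657 <|
  dn_cons d9_658 <|
  dn_cons d9_659 <|
  dn_cons d9_660 <|
  dn_cons d9_661 <|
  dn_cons d9_662 <|
  dn_cons d9_663 <|
  dn_cons d9_664 <|
  dn_cons d9_665 <|
  dn_cons d9_666 <|
  dn_cons d9_667 <|
  dn_cons d9_668 <|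
  dn_cons d9_669 <|
  dn_cons d9_670 <|
  dn_cons d9_671 <|
  dn_cons d9_672 <|
  dn_cons d9_673 <|
  dn_cons d9_674 <|
  dn_cons d9_675 <|
  dn_cons d9_676 <|
  dn_cons d9_677 <|
  dn_cons d9_678 <|
  dn_cons d9_679 <|
  dn_cons d9_680 <|
  dn_cons d9_681 <|
  dn_cons d9_682 <|
  dn_cons d9_683 <|
  dn_cons d9_684 <|
  dn_cons d9_685 <|
  dn_cons d9_686 <|
  dn_cons d9_687 <|
  dn_cons d9_688 <|
  dn_cons d9_689 <|
  dn_cons d9_690 <|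
  dn_cons d9_691 <|
  dn_cons d9_692 <|
  dn_cons d9_693 <|
  dn_cons d9_694 <|
  dn_cons d9_695 <|
  dn_cons d9_696 <|
  dn_cons d9_697 <|
  dn_cons d9_698 <|
  dn_cons d9_699 <|
  dn_cons d9_700 <|
  dn_cons d9_701 <|
  dn_cons d9_702 <|
  dn_cons d9_703 <|
  dn_cons d9_704 <|
  dn_cons d9_705 <|
  dn_cons d9_706 <|
  dn_cons d9_707 <|
  dn_cons d9_708 <|
  dn_cons d9_709 <|
  dn_cons d9_710 <|
  dn_cons d9_711 <|
  dn_cons d9_712 <|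
  dn_cons d9_713 <|
  dn_cons d9_714 <|
  dn_cons d9_715 <|
  dn_cons d9_716 <|
  dn_cons d9_717 <|
  dn_cons d9_718 <|
  dn_cons d9_719 <|
  dn_cons d9_720 <|
  dn_cons d9_721 <|
  dn_cons d9_722 <|
  dn_cons d9_723 <|
  dn_cons d9_724 <|
  dn_cons d9_725 <|
  dn_cons d9_726 <|
  dn_cons d9_727 <|
  dn_cons d9_728 <|
  dn_cons d9_729 <|
  dn_cons d9_730 <|
  dn_cons d9_731 <|
  dn_cons d9_732 <|
  dn_cons d9_733 <|
  dn_cons d9_734 <|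
  dn_cons d9_735 <|
  dn_cons d9_736 <|
  dn_cons d9_737 <|
  dn_cons d9_738 <|
  dn_cons d9_739 <|
  dn_cons d9_740 <|
  dn_cons d9_741 <|
  dn_cons d9_742 <|
  dn_cons d9_743 <|
  dn_cons d9_744 <|
  dn_cons d9_745 <|
  dn_cons d9_746 <|
  dn_cons d9_747 <|
  dn_cons d9_748 <|
  dn_cons d9_749 <|
  dn_cons d9_750 <|
  dn_cons d9_751 <|
  dn_cons d9_752 <|
  dn_cons d9_753 <|
  dn_cons d9_754 <|
  dn_cons d9_755 <|
  dn_cons d9_756 <|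
  dn_cons d9_757 <|
  dn_cons d9_758 <|
  dn_cons d9_759 <|
  dn_cons d9_760 <|
  dn_cons d9_761 <|
  dn_cons d9_762 <|
  dn_cons d9_763 <|
  dn_cons d9_764 <|
  dn_cons d9_765 <|
  dn_cons d9_766 <|
  dn_cons d9_767 <|
  dn_cons d9_768 <|
  dn_cons d9_769 <|
  dn_cons d9_770 <|
  dn_cons d9_771 <|
  dn_cons d9_772 <|
  dn_cons d9_773 <|
  dn_cons d9_774 <|
  dn_cons d9_775 <|
  dn_cons d9_776 <|
  dn_cons d9_777 <|
  dn_cons d9_778 <|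
  dn_cons d9_779 <|
  dn_cons d9_780 <|
  dn_cons d9_781 <|
  dn_cons d9_782 <|
  dn_cons d9_783 <|
  dn_cons d9_784 <|
  dn_cons d9_785 <|
  dn_cons d9_786 <|
  dn_cons d9_787 <|
  dn_cons d9_788 <|
  dn_cons d9_789 <|
  dn_cons d9_790 <|
  dn_cons d9_791 <|
  dn_cons d9_792 <|
  dn_cons d9_793 <|
  dn_cons d9_794 <|
  dn_cons d9_795 <|
  dn_cons d9_796 <|
  dn_cons d9_797 <|
  dn_cons d9_798 <|
  dn_cons d9_799 <|
  dn_cons d9_800 <|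
  dn_cons d9_801 <|
  dn_cons d9_802 <|
  dn_cons d9_803 <|
  dn_cons d9_804 <|
  dn_cons d9_805 <|
  dn_cons d9_806 <|
  dn_cons d9_807 <|
  dn_cons d9_808 <|
  dn_cons d9_809 <|
  dn_cons d9_810 <|
  dn_cons d9_811 <|
  dn_cons d9_812 <|
  dn_cons d9_813 <|
  dn_cons d9_814 <|
  dn_cons d9_815 <|
  dn_cons d9_816 <|
  dn_cons d9_817 <|
  dn_cons d9_818 <|
  dn_cons d9_819 <|
  dn_cons d9_820 <|
  dn_cons d9_821 <|
  dn_cons d9_822 <|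
  dn_cons d9_823 <|
  dn_cons d9_824 <|
  dn_cons d9_825 <|
  dn_cons d9_826 <|
  dn_cons d9_827 <|
  dn_cons d9_828 <|
  dn_cons d9_829 <|
  dn_cons d9_830 <|
  dn_cons d9_831 <|
  dn_cons d9_832 <|
  dn_cons d9_833 <|
  dn_cons d9_834 <|
  dn_cons d9_835 <|
  dn_cons d9_836 <|
  dn_cons d9_837 <|
  dn_cons d9_838 <|
  dn_cons d9_839 <|
  dn_cons d9_840 <|
  dn_cons d9_841 <|
  dn_cons d9_842 <|
  dn_cons d9_843 <|
  dn_cons d9_844 <|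
  dn_cons d9_845 <|
  dn_cons d9_846 <|
  dn_cons d9_847 <|
  dn_cons d9_848 <|
  dn_cons d9_849 <|
  dn_cons d9_850 <|
  dn_cons d9_851 <|
  dn_cons d9_852 <|
  dn_cons d9_853 <|
  dn_cons d9_854 <|
  dn_cons d9_855 <|
  dn_cons d9_856 <|
  dn_cons d9_857 <|
  dn_cons d9_858 <|
  dn_cons d9_859 <|
  dn_cons d9_860 <|
  dn_cons d9_861 <|
  dn_cons d9_862 <|
  dn_cons d9_863 <|
  dn_cons d9_864 <|
  dn_cons d9_865 <|
  dn_cons d9_866 <|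
  dn_cons d9_867 <|
  dn_cons d9_868 <|
  dn_cons d9_869 <|
  dn_cons d9_870 <|
  dn_cons d9_871 <|
  dn_cons d9_872 <|
  dn_cons d9_873 <|
  dn_cons d9_874 <|
  dn_cons d9_875 <|
  List.forall_mem_nil _

/-- **The sweep at the order `2 ^ 9`.** -/
theorem swp9 : ∀ l ∈ L8, Swp 8 S9 l := fun l hl => swp_of_dn (dn9 l hl)

end Cfsg.Agent.FS.N.Sw
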