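import Cfsg.Agent.FS.Sw.Eng

/-!
# The filter on pairs for bases of order up to `2 ^ 8`: definitions (helper75, project FS; port of `FS/Sw/Eng`)

The data `Sw.Pre`, `Sw.pre` are those of the old engine; `pop`, `ctz` and all functions which use them are new.
-/

set_option autoImplicit false

namespace Cfsg.Agent.FS.N.Sw

open Cfsg.Agent.FS.Pc
open Cfsg.Agent.FS.Sw (ite' band bor bnot tb row rep Pre pre)

/-- the number of bits of a mask below `2 ^ 256` -/
def pop (X : ℕ) : ℕ := Nat.mod (Nat.land (Nat.mul X
  0x200000000000000000000000000000000000000000000000000000000000000000004000000000000000000000000000000000000000000000000000000000000000000080000000000000000000000000000000000000000000000000000000000000000001000000000000000000000000000000000000000000000000000000000000000000020000000000000000000000000000000000000000000000000000000000000000000400000000000000000000000000000000000000000000000000000000000000000008000000000000000000000000000000000000000000000000000000000000000000100000000000000000000000000000000000000000000000000000000000000000002000000000000000000000000000000000000000000000000000000000000000000040000000000000000000000000000000000000000000000000000000000000000000800000000000000000000000000000000000000000000000000000000000000000010000000000000000000000000000000000000000000000000000000000000000000200000000000000000000000000000000000000000000000000000000000000000004000000000000000000000000000000000000000000000000000000000000000000080000000000000000000000000000000000000000000000000000000000000000001)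
  0x1000100010001000100010001000100010001000100010001000100010001000100010001000100010001000100010001000100010001000100010001000100010001000100010001000100010001000100010001000100010001000100010001000100010001000100010001000100010001000100010001000100010001000100010001000100010001000100010001000100010001000100010001000100010001000100010001000100010001000100010001000100010001000100010001000100010001000100010001000100010001000100010001000100010001000100010001000100010001000100010001000100010001000100010001000100010001000100010001000100010001000100010001000100010001000100010001000100010001000100010001000100010001000100010001000100010001000100010001000100010001000100010001000100010001000100010001000100010001000100010001000100010001000100010001000100010001000100010001000100010001000100010001000100010001000100010001000100010001000100010001000100010001000100010001000100010001000100010001000100010001000100010001000100010001000100010001000100010001000100010001000100010001000100010001000100010001000100010001000100010001000100010001000100010001000100010001000100010001000100010001) 65535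

/-- the lowest bit of a mask below `2 ^ 256` -/
noncomputable def ctz (M : ℕ) : ℕ :=
  Bool.rec (motive := fun _ => ℕ) (Nat.log2 M) (pop (Nat.shiftRight (Nat.xor M (Nat.sub M 1)) 1))
    (Nat.ble M 0xffffffffffffffffffffffffffffffffffffffffffffffffffffffffffffffff)

noncomputable def c2 (p : Pre) (Q X a : ℕ) : ℕ := pop (Nat.land X (p.rt Q a))

noncomputable def c4 (p : Pre) (Q X a : ℕ) : ℕ := pop (Nat.land X (p.sqin (p.rt Q a)))

noncomputable def cw (p : Pre) (NC Q X a : ℕ) : ℕ :=
  Nat.mod (Nat.land (rep (Nat.land (Nat.mul (Nat.land X (p.rt Q a)) p.O) (p.cp NC X)) 65543 3) (ones 8 17)) 255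

/-- the elements `a`, `b` have the same colour in the subgroup `X` -/
noncomputable def same (p : Pre) (lev : Bool) (NC Q X a b : ℕ) : Bool :=
  band (Nat.beq (c2 p Q X a) (c2 p Q X b))
    (ite' lev (band (Nat.beq (c4 p Q X a) (c4 p Q X b)) (Nat.beq (cw p NC Q X a) (cw p NC Q X b))) true)

/-- some bit of `M` has the property `f` -/
noncomputable def anyM (f : ℕ → Bool) (fuel : ℕ) : ℕ → Bool :=
  Nat.rec (motive := fun _ => ℕ → Bool) (fun _ => false) (fun _ ih M => ite' (Nat.beq M 0) false
    (frc (ctz M) fun t => bor (f t) (frc (Nat.xor M (Nat.shiftLeft 1 t)) ih))) fuel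

/-- `f a = 0`: nothing, `f a = 1`: count, otherwise stop; `a = 2 x + e` over the bits `x` of `M` -/
noncomputable def cntM (f : ℕ → ℕ) (fin : ℕ → Bool) (fuel : ℕ) : ℕ → ℕ → Bool :=
  Nat.rec (motive := fun _ => ℕ → ℕ → Bool) (fun _ _ => false) (fun _ ih M k => ite' (Nat.beq M 0) (fin k)
    (frc (ctz M) fun x => frc (Nat.shiftLeft x 1) fun a => frc (f a) fun b => ite' (Nat.ble b 1)
      (frc (Nat.succ a) fun a' => frc (f a') fun b' => ite' (Nat.ble b' 1)
        (frc (Nat.xor M (Nat.shiftLeft 1 x)) fun M' => frc (Nat.add k (Nat.add b b')) (ih M')) false) false)) fuel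

noncomputable def shp (p : Pre) (lev : Bool) (c NC Q w X t ti a : ℕ) : ℕ :=
  ite' (same p lev NC Q X a w)
    (frc (p.mul c t a) fun b => frc (p.mul c b ti) fun u => frc (p.mul c a u) fun au => frc (p.mul c w a) fun wa =>
      ite' (same p lev NC Q X wa au) 2 1) 0

/-- the shape test at `t` -/
noncomputable def shape (p : Pre) (lev : Bool) (c NC Q w X V pv t : ℕ) : Bool :=
  frc (Nat.land V (row p.n p.F NC t)) fun Mv => frc (Nat.shiftLeft t 1) fun t2 =>
  frc (Nat.shiftLeft (ctz (row p.n p.F p.ZP t)) 1) fun i2 => frc (p.mul c t2 i2) fun e =>
  band (Nat.blt e 2) (band (Nat.blt i2 (Nat.add p.N p.N)) (frc (Nat.add i2 e) fun ti =>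
    cntM (shp p lev c NC Q w X t2 ti) (fun k => bor (Nat.blt k 4) (Nat.beq (Nat.shiftLeft (pop Mv) 1) pv)) p.N1 Mv 0))

/-- no datum at the centralizer of the class `v` -/
noncomputable def cls (p : Pre) (lev : Bool) (c NC Q I w : ℕ) (d : ℕ × List (ℕ × ℕ)) : Bool :=
  bor (tb Q d.1) (frc (row p.n p.F NC d.1) fun rw => bor (Nat.beq rw 0)
    (frc (Nat.xor p.F rw) fun X => frc (p.orN NC rw d.2) fun Nm =>
      frc (Nat.land I (Nat.xor p.F (p.nz NC X))) fun V => frc (Nat.land (Nat.land Nm rw) (p.sqin X)) fun R =>
      frc (pop V) fun pv => frc (pop X) fun px => frc (pop Nm) fun pn =>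
      bor (band (Nat.blt (Nat.shiftLeft px 1) pn)
          (anyM (fun t => Nat.beq (Nat.shiftLeft (pop (Nat.land V (row p.n p.F NC t))) 1) pv) p.N R))
        (bor (band lev (band (Nat.ble (Nat.shiftLeft px 3) pn) (Nat.ble pv 16)))
          (anyM (shape p lev c NC Q w X V pv) p.N R))))

/-- the elements `2 x + e` over the bits `x` of `M` with the property `f` -/
noncomputable def colM {α : Type} (f : ℕ → Bool) (fail : α) (k : List ℕ → α) (fuel : ℕ) : ℕ → List ℕ → α :=
  Nat.rec (motive := fun _ => ℕ → List ℕ → α) (fun _ _ => fail) (fun _ ih M L => ite' (Nat.beq M 0) (k L)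
    (frc (ctz M) fun x => frc (Nat.shiftLeft x 1) fun a => frc (Nat.succ a) fun a' =>
      frc (Nat.xor M (Nat.shiftLeft 1 x)) fun M' =>
      ite' (f a) (ite' (f a') (ih M' (a :: a' :: L)) (ih M' (a :: L))) (ite' (f a') (ih M' (a' :: L)) (ih M' L)))) fuel

/-- `x`; the first argument only changes the hash value of the term -/
def sl (_h x : ℕ) : ℕ := x

/-- the first test -/
noncomputable def s1 (p : Pre) (c : ℕ) : Bool :=
  p.conc c fun NC Q I => Pre.allL (cls p false c (sl c NC) (sl c Q) (sl c I) 1) p.C

noncomputable def s2a (p : Pre) (c w NC Q I : ℕ) : Bool :=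
  ite' (Nat.beq w 1) (Pre.allL (cls p true c NC Q I 1) p.C) (frc (p.cen NC I) fun W =>
  band (Nat.blt 0 w) (band (tb W (Nat.shiftRight w 1))
    (colM (fun a => band (Nat.blt 0 a) (same p true NC Q p.F a w)) false
      (fun L => ite' (Pre.short L) (Pre.allL (cls p true c NC Q I w) p.C)
        (Pre.allL (fun a => Pre.allL (cls p true c NC Q I a) p.C) L)) p.N1 W [])))

/-- the second test, with the central involution `w` (`w = 1`: the first test with all colours) -/
noncomputable def s2 (p : Pre) (c w : ℕ) : Bool := p.conc c fun NC Q I => s2a p c w (sl c NC) (sl c Q) (sl c I)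

/-- the representatives `cnt - 1, …, lo`; a certificate `512 i + w` sends number `i` to the second test (`w > 0`)
or lets it pass (`w = 0`); the certificates are packed in decreasing order of `i` with `24` bits, shifted by one -/
noncomputable def run (p : Pre) (reps lo k : ℕ) (outs : List ℕ) : ℕ → Bool :=
  Nat.rec (motive := fun _ => ℕ → Bool) (fun _ => true) (fun j ih ce => frc (Nat.add lo j) fun i =>
    frc (Nat.land (Nat.shiftRight reps (Nat.mul p.r i)) (msk p.r)) fun c =>
    ite' (Nat.beq (Nat.shiftRight (Nat.land ce 16777215) 9) (Nat.succ i))
      (frc (Nat.land ce 511) fun w => band (ite' (Nat.beq w 0) (bnot (Pre.allL (fun o => bnot (Nat.beq o i)) outs)) (s2 p c w))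
        (frc (Nat.shiftRight ce 24) ih))
      (band (s1 p c) (ih ce))) k

/-- the classes, packed with `9` bits: `256 + v` begins a class -/
noncomputable def dec (k : ℕ) : ℕ → List ℕ → List (ℕ × List ℕ) :=
  Nat.rec (motive := fun _ => ℕ → List ℕ → List (ℕ × List ℕ)) (fun _ _ => []) (fun _ ih cd us =>
    ite' (Nat.beq cd 0) [] (frc (Nat.land cd 255) fun u => frc (Nat.shiftRight cd 9) fun cd' =>
      ite' (tb cd 8) ((u, u :: us) :: ih cd' []) (ih cd' (u :: us)))) k

/-- the check of the representatives `lo, …, lo + k - 1` of a base -/
noncomputable def chk (n : ℕ) (B : Base) (cd lo k ce : ℕ) (outs : List ℕ) : Bool :=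
  band (Nat.ble B.w 32) (band (Nat.ble n 8) (band (Nat.ble 1 n)
    (pre n B.r B.w B.rel (dec 256 cd []) fun p => band p.cover (frc B.reps fun reps => run p reps lo k outs ce))))

end Cfsg.Agent.FS.N.Sw
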