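import Cfsg.Agent.FS.N.Sw.Sem
import Cfsg.Agent.FS.Sw.Pre

/-!
# The filter on pairs for bases of order up to `2 ^ 8`: the precomputed data (helper75, project FS; port of `FS/Sw`)
-/

set_option autoImplicit false

namespace Cfsg.Agent.FS.N.Sw

open Cfsg.Agent.FS.Pc Cfsg.Agent.FS.Sw Finset

universe u

variable {G : Type u} [Group G]

theorem perm1 : ∀ n, n < 9 → (∀ i, i < 5 → n + n ≤ swf 5 (n + n) i ∧
    ∀ k, k < 32 → k.testBit i = (pa n k).testBit (swf 5 (n + n) i - (n + n))) ∧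
      ∀ i, i < n + n → swf 5 (n + n) (i + 5) = i := by decide +kernel

theorem perm2 : ∀ n, n < 9 → ∀ i, i < n + n + 5 →
    swf n n i = if i < n then i + n else if i < n + n then i - n else i := by decide +kernel

theorem testBit_PM {n : ℕ} (hn : n ≤ 8) (T : ℕ) {k p : ℕ} (hk : k < 32) (hp : p < 2 ^ (n + n)) :
    (swps (n + n + 5) 5 (n + n) T).testBit (2 ^ (n + n) * pa n k + p) = (Pc.get 32 T p).testBit k := by
  obtain ⟨h1, h2⟩ := perm1 n (by omega)
  rw [← testBit_of_get hk]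
  refine (prm_swps (by norm_num) T _ le_rfl).1 _ _ (addr_lt' (pa_lt n k) hp)
    (by rw [Nat.add_comm _ 5]; exact addr_lt' (s := 5) hp hk) fun i hi => ?_
  rw [show 32 = 2 ^ 5 from rfl, Nat.testBit_two_pow_mul_add _ hk, Nat.testBit_two_pow_mul_add _ hp]
  by_cases h3 : i < 5
  · rw [if_pos h3, if_neg (not_lt.2 (h1 i h3).1), (h1 i h3).2 k hk]
  · obtain ⟨j, rfl⟩ : ∃ j, i = j + 5 := ⟨i - 5, by omega⟩
    rw [if_neg h3, h2 j (by omega), if_pos (by omega), Nat.add_sub_cancel]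

theorem testBit_PT {n : ℕ} (h1 : 1 ≤ n) (hn : n ≤ 8) (X : ℕ) {k a b : ℕ} (hk : k < 2 ^ 5) (ha : a < 2 ^ n)
    (hb : b < 2 ^ n) : (swps (n + n + 5) n n X).testBit (2 ^ (n + n) * k + (2 ^ n * a + b)) =
      X.testBit (2 ^ (n + n) * k + (2 ^ n * b + a)) := by
  refine (prm_swps h1 X _ (by omega)).1 _ _ (addr_lt' hk (addr_lt ha hb)) (addr_lt' hk (addr_lt hb ha)) fun i hi => ?_
  rw [perm2 n (by omega) i hi, Nat.testBit_two_pow_mul_add _ (addr_lt ha hb),
    Nat.testBit_two_pow_mul_add _ (addr_lt hb ha), Nat.testBit_two_pow_mul_add _ ha, Nat.testBit_two_pow_mul_add _ hb]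
  by_cases h2 : i < n
  · simp only [if_pos h2]
    rw [if_pos (by omega), if_pos (by omega), if_neg (by omega), Nat.add_sub_cancel]
  · simp only [if_neg h2]
    by_cases h3 : i < n + n
    · simp only [if_pos h3]
      rw [if_pos (by omega), if_pos (by omega)]
    · simp only [if_neg h3]

theorem ok_preV {z : G} {x : ℕ → G} {c r n w R : ℕ} (h : Ext z x c r n w R) (h1 : 1 ≤ n) (h7 : n ≤ 8) (hw : w ≤ 32)
    (cs : List (ℕ × List ℕ)) : Ok (preV n r w R cs) z (el x n) c
      ((preV n r w R cs).NC0 ||| (xorL (preV n r w R cs).E c r 0 &&& (preV n r w R cs).F2))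
      (xorL (preV n r w R cs).E c r 0 >>> (preV n r w R cs).N2)
      ((preV n r w R cs).sq 0 &&& ((preV n r w R cs).F ^^^ xorL (preV n r w R cs).E c r 0 >>> (preV n r w R cs).N2))
      (fun y => Pc.get 32 (vT n r w R) (2 ^ n * y + y) >>> r) := by
  have hE := ext_repack h hw
  have hrn : r + n ≤ 32 := hE.width
  have hm : ∀ {a b : ℕ}, a < 2 ^ n → b < 2 ^ n → Pc.get 32 (vT n r w R) (2 ^ n * a + b) >>> r < 2 ^ n ∧
      el x n a * el x n b = el x n (Pc.get 32 (vT n r w R) (2 ^ n * a + b) >>> r) *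
        zp z (par r (Pc.get 32 (vT n r w R) (2 ^ n * a + b) &&& c)) := fun ha hb => hE.mul ha hb
  have hPM : ∀ {k a b : ℕ}, k < 32 → a < 2 ^ n → b < 2 ^ n →
      (plane n (2 ^ (2 ^ n * 2 ^ n) - 1) (vPM n r w R) k).testBit (2 ^ n * a + b) =
        (Pc.get 32 (vT n r w R) (2 ^ n * a + b)).testBit k := fun hk ha hb => by
    rw [testBit_plane (addr_lt ha hb)]
    exact testBit_PM h7 _ hk (addr_lt ha hb)
  have hPT : ∀ {k a b : ℕ}, k < 32 → a < 2 ^ n → b < 2 ^ n →
      (plane n (2 ^ (2 ^ n * 2 ^ n) - 1) (vPT n r w R) k).testBit (2 ^ n * a + b) =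
        (Pc.get 32 (vT n r w R) (2 ^ n * b + a)).testBit k := fun hk ha hb => by
    rw [testBit_plane (addr_lt ha hb)]
    exact (testBit_PT h1 h7 _ (pa_lt _ _) ha hb).trans (testBit_PM h7 _ hk (addr_lt hb ha))
  have hD : ∀ {k a b : ℕ}, k < 32 → a < 2 ^ n → b < 2 ^ n →
      (plane n (2 ^ (2 ^ n * 2 ^ n) - 1) (vPM n r w R ^^^ vPT n r w R) k).testBit (2 ^ n * a + b) =
        (Pc.get 32 (vT n r w R) (2 ^ n * a + b) ^^^ Pc.get 32 (vT n r w R) (2 ^ n * b + a)).testBit k :=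
    fun hk ha hb => by
      rw [Nat.testBit_xor, ← hPM hk ha hb, ← hPT hk ha hb, testBit_plane (addr_lt ha hb),
        testBit_plane (addr_lt ha hb), testBit_plane (addr_lt ha hb), Nat.testBit_xor]
  have hQ : ∀ y v, (∀ i, i < r → (decide (y < 2 ^ n) && (plane n (2 ^ (2 ^ n * 2 ^ n) - 1) (vPM n r w R) i).testBit
      (2 ^ n * y + y)) = v.testBit i) →
      (xorL (preV n r w R cs).E c r 0 >>> (preV n r w R cs).N2).testBit y = par r (v &&& c) := fun y v hv => by
    rw [Nat.testBit_shiftRight]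
    refine (testBit_xorL _ c _ v r 0 fun i hi => ?_).trans (by rw [Nat.zero_testBit, Bool.false_xor])
    show Nat.testBit (_ + _ <<< (2 ^ n * 2 ^ n)) (2 ^ n * 2 ^ n + y) = _
    rw [testBit_cat _ (plane_lt _ _ _), if_neg (by omega), Nat.add_sub_cancel_left, testBit_diag, hv i hi]
  have zpc : ∀ (e : Bool) (y : G), zp z e * y = y * zp z e := fun e y => by
    cases e
    · exact (one_mul y).trans (mul_one y).symm
    · exact h.zc y
  refine ⟨h1, h7, rfl, rfl, rfl, rfl, rfl, rfl, rfl, rfl, rfl, h.z2, h.zc, h.span', h.inj, el_nil x n,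
    fun y hy g => ?_, fun a b ha hb => ?_, fun a b ha hb => ?_, lt_of_testBit fun y hy => ?_,
    fun y hy => (hm hy hy).1, fun y hy => ?_, fun u hu y => ?_, rfl, fun d hd u hu hd1 hu1 => ?_⟩
  · obtain ⟨a, -, e, rfl⟩ := h.span' g
    have h2 : el x n a ∈ Subgroup.centralizer {y} := el_mem a n fun k hk => by
      have h3 : el x n (2 ^ k) * y = y * el x n (2 ^ k) := hy k hk
      have h4 := el_top x (Nat.two_pow_pos k)
      rw [Nat.zero_xor, el_nil, mul_one] at h4
      rw [el_of_lt x (Nat.pow_lt_pow_right (by norm_num) (Nat.lt_succ_self k)) hk, h4] at h3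
      exact Subgroup.mem_centralizer_singleton_iff.2 h3
    rw [mul_assoc, zpc, ← mul_assoc, Subgroup.mem_centralizer_singleton_iff.1 h2, mul_assoc]
  · have ha' : a >>> 1 < 2 ^ n := by
      have : a < 2 * 2 ^ n := ha
      rw [Nat.shiftRight_eq_div_pow]
      omega
    have hb' : b >>> 1 < 2 ^ n := by
      have : b < 2 * 2 ^ n := hb
      rw [Nat.shiftRight_eq_div_pow]
      omega
    obtain ⟨h2, h3⟩ := hm ha' hb'
    have h4 : (preV n r w R cs).mul c a b = (Pc.get 32 (vT n r w R) (2 ^ n * (a >>> 1) + b >>> 1) >>> r) * 2 +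
        (cnt r ((Pc.get 32 (vT n r w R) (2 ^ n * (a >>> 1) + b >>> 1) &&& c) % 2 ^ r) ^^^ (a ^^^ b)) % 2 := by
      have h5 : Nat.land (Nat.shiftRight (vT n r w R) (Nat.shiftLeft (Nat.add (Nat.shiftLeft (Nat.shiftRight a 1) n)
          (Nat.shiftRight b 1)) 5)) 4294967295 = Pc.get 32 (vT n r w R) (2 ^ n * (a >>> 1) + b >>> 1) := by
        rw [shl_eq, shl_eq, Nat.mul_comm _ (2 ^ n), Nat.mul_comm _ (2 ^ 5)]
        exact Nat.and_two_pow_sub_one_eq_mod _ 32
      show Nat.add (Nat.shiftLeft (Nat.shiftRight (Nat.land _ 4294967295) r) 1) (Nat.land (Nat.xor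
        (FS.Sw.pop (Nat.land (Nat.land (Nat.land _ 4294967295) c) (msk r))) (Nat.xor a b)) 1) = _
      erw [h5]
      rw [land_msk, FS.Sw.pop_eq (by omega) (Nat.mod_lt _ (Nat.two_pow_pos r)), shl_eq, nland, Nat.and_one_is_mod]
      rfl
    rw [h4]
    generalize Pc.get 32 (vT n r w R) (2 ^ n * (a >>> 1) + b >>> 1) = t at h2 h3 ⊢
    have h5 := Nat.mod_lt (cnt r ((t &&& c) % 2 ^ r) ^^^ (a ^^^ b)) (show 0 < 2 by norm_num)
    refine ⟨by show _ < 2 * 2 ^ n; omega, ?_⟩
    unfold e2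
    have h6 : (t >>> r * 2 + (cnt r ((t &&& c) % 2 ^ r) ^^^ (a ^^^ b)) % 2) >>> 1 = t >>> r := by
      rw [Nat.shiftRight_eq_div_pow _ 1]
      omega
    have h8 : (t >>> r * 2 + (cnt r ((t &&& c) % 2 ^ r) ^^^ (a ^^^ b)) % 2).testBit 0 =
        xor (par r (t &&& c)) (xor (a.testBit 0) (b.testBit 0)) := by
      rw [← Nat.testBit_xor, ← par_congr (a := (t &&& c) % 2 ^ r) r fun i hi => by
        rw [Nat.testBit_mod_two_pow, decide_eq_true hi, Bool.true_and], ← cnt_par, ← Nat.testBit_xor,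
        Nat.testBit_zero, Nat.testBit_zero]
      congr 1
      rw [Nat.mul_comm, Nat.mul_add_mod, Nat.mod_mod]
    rw [h6, h8, zp_xor h.z2, ← mul_assoc (el x n (t >>> r)), ← h3, zp_xor h.z2, mul_assoc,
      ← mul_assoc (zp z (a.testBit 0)), zpc]
    simp only [mul_assoc]
  · have ha' : a < 2 ^ n := ha
    have hb' : b < 2 ^ n := hb
    obtain ⟨h2, h3⟩ := hm ha' hb'
    obtain ⟨h4, h5⟩ := hm hb' ha'
    have h6 : (xorL (preV n r w R cs).E c r 0 &&& (preV n r w R cs).F2).testBit (2 ^ n * a + b) =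
        xor (par r (Pc.get 32 (vT n r w R) (2 ^ n * a + b) &&& c))
          (par r (Pc.get 32 (vT n r w R) (2 ^ n * b + a) &&& c)) := by
      have h7 : 2 ^ n * a + b < 2 ^ n * 2 ^ n := by rw [← Nat.pow_add]; exact addr_lt ha' hb'
      rw [← par_xor, ← Nat.and_xor_distrib_right, Nat.testBit_and,
        show (preV n r w R cs).F2 = 2 ^ (2 ^ n * 2 ^ n) - 1 from rfl, Nat.testBit_two_pow_sub_one, decide_eq_true h7,
        Bool.and_true]
      refine (testBit_xorL _ c _ _ r 0 fun i hi => ?_).trans (by rw [Nat.zero_testBit, Bool.false_xor])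
      show Nat.testBit (_ + _ <<< (2 ^ n * 2 ^ n)) _ = _
      rw [testBit_cat _ (plane_lt _ _ _), if_pos h7, hD (by omega) ha' hb']
    have h8 : (preV n r w R cs).NC0.testBit (2 ^ n * a + b) = true ↔
        Pc.get 32 (vT n r w R) (2 ^ n * a + b) >>> r ≠ Pc.get 32 (vT n r w R) (2 ^ n * b + a) >>> r := by
      refine (testBit_orPl _ _ _ _ _ n).trans ⟨fun ⟨i, hi, h9⟩ h10 => ?_, fun h9 => ?_⟩
      · rw [hD (by omega) ha' hb', Nat.testBit_xor, ← Nat.testBit_shiftRight, ← Nat.testBit_shiftRight, h10,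
          Bool.xor_self] at h9
        cases h9
      · by_contra h10
        refine h9 (eq_of_testBit_lt h2 h4 fun i hi => ?_)
        have h11 : ¬ _ := fun h11 => h10 ⟨i, hi, h11⟩
        rw [hD (by omega) ha' hb', Nat.testBit_xor, ← Nat.testBit_shiftRight, ← Nat.testBit_shiftRight] at h11
        revert h11
        cases (Pc.get 32 (vT n r w R) (2 ^ n * a + b) >>> r).testBit i <;>
          cases (Pc.get 32 (vT n r w R) (2 ^ n * b + a) >>> r).testBit i <;> simp
    show Nat.testBit (_ ||| _) (2 ^ n * a + b) = true ↔ el x n a * el x n b ≠ el x n b * el x n a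
    rw [Nat.testBit_or, Bool.or_eq_true, h6, h8, h3, h5]
    constructor
    · intro h9 h10
      obtain ⟨h11, h12⟩ := h.inj h2 h4 h10
      rcases h9 with h9 | h9
      · exact h9 h11
      · rw [h12, Bool.xor_self] at h9
        cases h9
    · intro h9
      by_contra h10
      rw [not_or, not_not] at h10
      refine h9 ?_
      rw [h10.1]
      congr 2
      have h11 := h10.2
      revert h11
      cases par r (Pc.get 32 (vT n r w R) (2 ^ n * a + b) &&& c) <;>
        cases par r (Pc.get 32 (vT n r w R) (2 ^ n * b + a) &&& c) <;> simp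
  · have hy' : 2 ^ n ≤ y := hy
    rw [hQ y 0 fun i _ => by rw [decide_eq_false (by omega), Bool.false_and, Nat.zero_testBit], Nat.zero_and, par_zero]
  · have hy' : y < 2 ^ n := hy
    rw [hQ y _ fun i hi => by rw [decide_eq_true hy', Bool.true_and, hPM (by omega) hy' hy']]
    exact (hm hy' hy').2
  · have hu' : u < 2 ^ n := hu
    refine ((sqt_spec (n := n) (sq := fun y => Pc.get 32 (vT n r w R) (2 ^ n * y + y) >>> r) n (fun i hi y hy => ?_) _
      (Nat.sub_lt (Nat.two_pow_pos _) Nat.one_pos)).2 u hu' y).trans ?_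
    · rw [(diags_spec _ _ _ _ n).2 i hi, testBit_diag, decide_eq_true hy, Bool.true_and, hPM (by omega) hy hy,
        Nat.testBit_shiftRight]
    · rw [Nat.testBit_two_pow_sub_one]
      show _ = (decide (y < 2 ^ n) && _)
      by_cases hy : y < 2 ^ n
      · rw [Nat.mod_eq_of_lt (hm hy hy).1]
      · rw [decide_eq_false hy, Bool.false_and, Bool.false_and]
  · obtain ⟨d, -, rfl⟩ := List.mem_map.1 hd
    obtain ⟨u, -, rfl⟩ := List.mem_map.1 hu
    have hd' : d.1 < 2 ^ n := hd1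
    have hu' : u < 2 ^ n := hu1
    obtain ⟨h2, h3⟩ := cjm_spec n (2 ^ (2 ^ n * 2 ^ n) - 1) (vPM n r w R) (vPT n r w R) r d.1 u
    refine ⟨h2, fun g hg => ?_⟩
    obtain ⟨h4, h5⟩ := h3 g hg
    obtain ⟨h6, h8⟩ := hm hd' h4
    obtain ⟨h9, h10⟩ := hm h4 hu'
    have h11 := eq_of_testBit_lt h6 h9 fun i hi => by
      rw [Nat.testBit_shiftRight, Nat.testBit_shiftRight, ← hPM (by omega) hd' h4, h5 i hi, hPT (by omega) hu' h4]
    refine ⟨xor (par r (Pc.get 32 (vT n r w R) (2 ^ n * g + u) &&& c))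
      (par r (Pc.get 32 (vT n r w R) (2 ^ n * d.1 + g) &&& c)), ?_⟩
    show el x n d.1 * el x n g = el x n g * el x n u * _
    rw [h8, h10, h11, mul_assoc, ← zp_xor h.z2, ← Bool.xor_assoc, Bool.xor_self, Bool.false_xor]

end Cfsg.Agent.FS.N.Sw
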